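import Groth.Agent.Lib.K0Sub.LocFin
import Groth.Agent.Lib.QCoh.PullbackSections
import Groth.Agent.Lib.QCoh.SchSupport
import Mathlib.LinearAlgebra.TensorProduct.Quotient

/-!
# The adic filtration of a coherent module along a closed immersion

`kf i n F` is the submodule `Iⁿ F`, defined as the iterated kernel of the unit.
-/

universe u

open CategoryTheory CategoryTheory.Limits AlgebraicGeometry TopologicalSpace Opposite
open scoped TensorProduct

namespace GrothLib.K0Sub

theorem ker_tensor_unit {A B : Type u} [CommRing A] [CommRing B] [Algebra A B]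
    (h : Function.Surjective (algebraMap A B)) (M : Type u) [AddCommGroup M] [Module A M] :
    Function.Surjective (fun m : M => (1 : B) ⊗ₜ[A] m) ∧
      ∀ m : M, (1 : B) ⊗ₜ[A] m = 0 ↔ m ∈ RingHom.ker (algebraMap A B) • (⊤ : Submodule A M) := by
  refine ⟨fun z => ?_, fun m => ?_⟩
  · induction z using TensorProduct.induction_on with
    | zero => exact ⟨0, TensorProduct.tmul_zero _ _⟩
    | tmul b m =>
      obtain ⟨a, rfl⟩ := h b
      refine ⟨a • m, ?_⟩
      dsimp only
      rw [← TensorProduct.smul_tmul, Algebra.smul_def, mul_one]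
    | add x y hx hy =>
      obtain ⟨x', rfl⟩ := hx
      obtain ⟨y', rfl⟩ := hy
      exact ⟨x' + y', TensorProduct.tmul_add _ _ _⟩
  · let q : (A ⧸ RingHom.ker (algebraMap A B)) ≃ₐ[A] B :=
      Ideal.quotientKerAlgEquivOfSurjective (f := Algebra.ofId A B) h
    let e : B ⊗[A] M ≃ₗ[A] M ⧸ RingHom.ker (algebraMap A B) • (⊤ : Submodule A M) :=
      TensorProduct.congr q.symm.toLinearEquiv (LinearEquiv.refl A M) ≪≫ₗ
        TensorProduct.quotTensorEquivQuotSMul M (RingHom.ker (algebraMap A B))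
    have he : e ((1 : B) ⊗ₜ[A] m) = Submodule.Quotient.mk m := by
      have h1 : e ((1 : B) ⊗ₜ[A] m) =
          TensorProduct.quotTensorEquivQuotSMul M (RingHom.ker (algebraMap A B))
            ((q.symm 1) ⊗ₜ[A] m) := rfl
      rw [h1, map_one, show (1 : A ⧸ RingHom.ker (algebraMap A B)) = Ideal.Quotient.mk _ 1 from rfl,
        TensorProduct.quotTensorEquivQuotSMul_mk_tmul, one_smul]
    rw [← Submodule.Quotient.mk_eq_zero, ← he, map_eq_zero_iff e e.injective]

variable {X Z : Scheme.{u}} (i : Z ⟶ X) [IsClosedImmersion i]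

/-- The unit. -/
noncomputable abbrev unitApp (F : X.Modules) :
    F ⟶ (Scheme.Modules.pushforward i).obj ((Scheme.Modules.pullback i).obj F) :=
  (Scheme.Modules.pullbackPushforwardAdjunction i).unit.app F

theorem app_unit_surjective_and_ker (F : X.Modules) [F.IsQuasicoherent] (U : X.affineOpens) :
    Function.Surjective ((unitApp i F).app U.1) ∧
      ∀ m : Γ(F, U.1), (unitApp i F).app U.1 m = 0 ↔
        m ∈ i.ker.ideal U • (⊤ : Submodule Γ(X, U.1) Γ(F, U.1)) := by
  let P : Z.Opens := i ⁻¹ᵁ U.1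
  letI : Algebra Γ(X, U.1) Γ(Z, P) := (i.app U.1).hom.toAlgebra
  have halg : algebraMap Γ(X, U.1) Γ(Z, P) = (i.appLE U.1 P le_rfl).hom := by
    exact congrArg (fun g : Γ(X, U.1) ⟶ Γ(Z, P) => g.hom) i.app_eq_appLE
  have hb := QCoh.bijective_sectionsMap i F (le_rfl : P ≤ i ⁻¹ᵁ U.1) halg U.2 (U.2.preimage i)
  obtain ⟨hs, hk⟩ := ker_tensor_unit (B := Γ(Z, P)) (i.app_surjective U.1 U.2) Γ(F, U.1)
  have key : ∀ m : Γ(F, U.1), (unitApp i F).app U.1 m =
      QCoh.sectionsMap i F (le_rfl : P ≤ i ⁻¹ᵁ U.1) halg ((1 : Γ(Z, P)) ⊗ₜ m) := fun m => by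
    rw [QCoh.sectionsMap_tmul, one_smul]
    exact (Cohom.map_self_apply ((Scheme.Modules.pullback i).obj F) _ _).symm
  refine ⟨fun z => ?_, fun m => ?_⟩
  · obtain ⟨w, hw⟩ := hb.2 z
    obtain ⟨m, rfl⟩ := hs w
    exact ⟨m, (key m).trans hw⟩
  · rw [key, Scheme.Hom.ker_apply]
    exact Iff.trans ⟨fun h => hb.1 (h.trans (map_zero _).symm),
      fun h => (congrArg _ h).trans (map_zero _)⟩ (hk m)

theorem isQuasicoherent_pushPull (F : X.Modules) [F.IsQuasicoherent] :
    ((Scheme.Modules.pushforward i).obj ((Scheme.Modules.pullback i).obj F)).IsQuasicoherent := by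
  haveI := FittSheaf.isQuasicoherent_pullback i F
  exact QCoh.isQuasicoherent_pushforward i _

theorem isCoh_pushPull [IsLocallyNoetherian X] {F : X.Modules} (hF : Coh.IsCoh F) :
    Coh.IsCoh ((Scheme.Modules.pushforward i).obj ((Scheme.Modules.pullback i).obj F)) := by
  haveI := hF.1
  haveI := isQuasicoherent_pushPull i F
  refine ⟨inferInstance, (QCoh.isFiniteType_iff_moduleFinite _).2 fun U hU => ?_⟩
  haveI := QCoh.moduleFinite_of_isFiniteType F hF.2 hU
  exact Module.Finite.of_surjective (QCoh.appLinear (unitApp i F) U)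
    (app_unit_surjective_and_ker i F ⟨U, hU⟩).1

/-- A map surjective on affine sections is an epimorphism. -/
theorem epi_of_app_surjective {M N : X.Modules} [N.IsQuasicoherent] (g : M ⟶ N)
    (h : ∀ U : X.affineOpens, Function.Surjective (g.app U.1)) : Epi g := by
  refine (OX.epi_iff g).2 fun x => (ModuleCat.epi_iff_surjective _).2 fun e => ?_
  obtain ⟨U, hU, hxU, -⟩ := Opens.isBasis_iff_nbhd.1 X.isBasis_affineOpens (Opens.mem_top x)
  obtain ⟨c, z, hc, hz⟩ := WeakAss.exists_smul_eq_germ hU hxU e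
  have hu : IsUnit (X.presheaf.germ U x hxU c) :=
    (Scheme.mem_basicOpen _ c x hxU).mp (WeakAss.notMem_primeAt_iff.mp hc)
  obtain ⟨w, hw⟩ := h ⟨U, hU⟩ z
  refine ⟨((hu.unit⁻¹ : _ˣ) : X.presheaf.stalk x) • M.presheaf.germ U x hxU w, ?_⟩
  change QCoh.stalkLin g x _ = e
  rw [map_smul, QCoh.stalkLin_germ, show g.app U w = z from hw, ← hz, smul_smul,
    IsUnit.val_inv_mul, one_smul]

/-- The iterated kernels. -/
noncomputable def kf : ℕ → X.Modules → X.Modules
  | 0, F => F
  | n + 1, F => kernel (unitApp i (kf n F))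

/-- The inclusions. -/
noncomputable def kfι (n : ℕ) (F : X.Modules) : kf i (n + 1) F ⟶ kf i n F :=
  kernel.ι (unitApp i (kf i n F))

instance (n : ℕ) (F : X.Modules) : Mono (kfι i n F) :=
  inferInstanceAs (Mono (kernel.ι (unitApp i (kf i n F))))

/-- Functoriality. -/
noncomputable def kfMap : ∀ (n : ℕ) {F G : X.Modules}, (F ⟶ G) → (kf i n F ⟶ kf i n G)
  | 0, _, _, g => g
  | n + 1, _, _, g => kernel.map _ _ (kfMap n g)
      ((Scheme.Modules.pushforward i).map ((Scheme.Modules.pullback i).map (kfMap n g)))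
      ((Scheme.Modules.pullbackPushforwardAdjunction i).unit_naturality (kfMap n g))

theorem kfMap_ι (n : ℕ) {F G : X.Modules} (g : F ⟶ G) :
    kfMap i (n + 1) g ≫ kfι i n G = kfι i n F ≫ kfMap i n g :=
  kernel.lift_ι _ _ _

variable [IsLocallyNoetherian X]

theorem isCoh_kf {F : X.Modules} (hF : Coh.IsCoh F) : ∀ n, Coh.IsCoh (kf i n F)
  | 0 => hF
  | n + 1 => QCoh.isCoh_kernel _ (isCoh_kf hF n) (isCoh_pushPull i (isCoh_kf hF n))

/-- The graded pieces are killed by the ideal. -/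
theorem killedP_cokernel {F : X.Modules} (hF : Coh.IsCoh F) (n : ℕ) :
    killedP i (cokernel (kfι i n F)) := by
  have hk := isCoh_kf i hF n
  have hP := isCoh_pushPull i hk
  have hC : Coh.IsCoh (Abelian.coimage (unitApp i (kf i n F))) :=
    QCoh.isCoh_cokernel _ (QCoh.isCoh_kernel _ hk hP) hk
  have hS := QCoh.shortExact_image_cokernel (unitApp i (kf i n F))
  have hI : Coh.IsCoh (Abelian.image (unitApp i (kf i n F))) :=
    QCoh.isCoh_kernel _ hP (QCoh.isCoh_cokernel _ hk hP)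
  have h1 := ((devHyp i).sub _ hS hI ⟨hP, killedByIdeal_push i _⟩
    (QCoh.isCoh_cokernel _ hk hP)).1
  have e : Abelian.image (unitApp i (kf i n F)) ≅ cokernel (kfι i n F) :=
    (Abelian.coimageIsoImage (unitApp i (kf i n F))).symm
  exact ((devHyp i).clSub_iso e h1 hC).1

theorem app_kfι_mem {F : X.Modules} (hF : Coh.IsCoh F) (n : ℕ) (U : X.affineOpens)
    (m : Γ(kf i (n + 1) F, U.1)) :
    (kfι i n F).app U.1 m ∈ i.ker.ideal U • (⊤ : Submodule Γ(X, U.1) Γ(kf i n F, U.1)) := by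
  haveI := (isCoh_kf i hF n).1
  refine ((app_unit_surjective_and_ker i (kf i n F) U).2 _).1 ?_
  rw [← ConcreteCategory.comp_apply, ← Scheme.Modules.Hom.comp_app]
  change (kernel.ι (unitApp i (kf i n F)) ≫ unitApp i (kf i n F)).app U.1 m = 0
  rw [kernel.condition]
  rfl

theorem exists_app_kfι {F : X.Modules} (hF : Coh.IsCoh F) (n : ℕ) (U : X.affineOpens)
    (m : Γ(kf i n F, U.1)) (h : m ∈ i.ker.ideal U • (⊤ : Submodule Γ(X, U.1) Γ(kf i n F, U.1))) :
    ∃ w, (kfι i n F).app U.1 w = m := by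
  haveI := (isCoh_kf i hF n).1
  obtain ⟨w', hS⟩ := QCoh.shortExact_kernel_image (unitApp i (kf i n F))
  refine QCoh.app_exact hS U.1 m (Cohom.app_injective_of_mono (Abelian.image.ι _) U.1 ?_)
  rw [map_zero, ← ConcreteCategory.comp_apply, ← Scheme.Modules.Hom.comp_app, Abelian.image.fac]
  exact ((app_unit_surjective_and_ker i (kf i n F) U).2 m).2 h

theorem epi_kfMap {F G : X.Modules} (hF : Coh.IsCoh F) (hG : Coh.IsCoh G) (g : F ⟶ G) [Epi g] :
    ∀ n, Epi (kfMap i n g)
  | 0 => inferInstanceAs (Epi g)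
  | n + 1 => by
    haveI := epi_kfMap hF hG g n
    haveI := (isCoh_kf i hF n).1
    haveI := (isCoh_kf i hG n).1
    haveI := (isCoh_kf i hG (n + 1)).1
    haveI : (kernel (kfMap i n g)).IsQuasicoherent := QCoh.isQuasicoherent_kernel _
    refine epi_of_app_surjective (kfMap i (n + 1) g) fun U w => ?_
    have hs : Function.Surjective (QCoh.appLinear (kfMap i n g) U.1) :=
      QCoh.app_surjective_of_isAffineOpen (shortExact_kernel (kfMap i n g)) U.2
    have hmem := app_kfι_mem i hG n U w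
    rw [← LinearMap.range_eq_top.2 hs, ← Submodule.map_top,
      ← Submodule.map_smul''] at hmem
    obtain ⟨m, hm, hmw⟩ := hmem
    obtain ⟨v, rfl⟩ := exists_app_kfι i hF n U m hm
    refine ⟨v, Cohom.app_injective_of_mono (kfι i n G) U.1 ?_⟩
    rw [← hmw]
    exact congrArg (fun φ => Scheme.Modules.Hom.app φ U.1 v) (kfMap_ι i n g)

theorem exists_ideal_pow_smul_eq_bot {F : X.Modules} (hF : Coh.IsCoh F)
    (hs : CohB1.support F ⊆ Set.range i) (U : X.affineOpens) :
    ∃ n : ℕ, i.ker.ideal U ^ n • (⊤ : Submodule Γ(X, U.1) Γ(F, U.1)) = ⊥ := by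
  haveI := hF.1
  haveI : IsNoetherianRing Γ(X, U.1) := IsLocallyNoetherian.component_noetherian U
  let A := QCoh.annIdeal F hF.2
  have h : (A.support : Set X) ⊆ i.ker.support := by
    rw [QCoh.coe_support_annIdeal, Scheme.Hom.support_ker]
    exact hs.trans subset_closure
  have hrad : i.ker.ideal U ≤ (A.ideal U).radical := by
    rw [← PrimeSpectrum.zeroLocus_subset_zeroLocus_iff,
      ← U.2.fromSpec_preimage_zeroLocus (A.ideal U : Set Γ(X, U.1)),
      ← U.2.fromSpec_preimage_zeroLocus (i.ker.ideal U : Set Γ(X, U.1))]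
    intro p hp
    have hpU : U.2.fromSpec p ∈ U.1 := by
      rw [← SetLike.mem_coe, ← U.2.range_fromSpec]
      exact Set.mem_range_self p
    have h1 : U.2.fromSpec p ∈ (A.support : Set X) :=
      ((Scheme.IdealSheafData.coe_support_inter A U).ge ⟨hp, hpU⟩).1
    exact ((Scheme.IdealSheafData.coe_support_inter i.ker U).le ⟨h h1, hpU⟩).1
  obtain ⟨n, hn⟩ := Ideal.exists_pow_le_of_le_radical_of_fg hrad (IsNoetherian.noetherian _)
  refine ⟨n, eq_bot_iff.2 (Submodule.smul_le.2 fun a ha m _ => ?_)⟩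
  exact (Submodule.mem_bot _).2 (Module.mem_annihilator.1 (hn ha) m)

theorem kf_sections_eq_zero {F : X.Modules} (hF : Coh.IsCoh F) (U : X.affineOpens) {N : ℕ}
    (hN : i.ker.ideal U ^ N • (⊤ : Submodule Γ(X, U.1) Γ(F, U.1)) = ⊥) :
    ∀ n, N ≤ n → ∀ m : Γ(kf i n F, U.1), m = 0 := by
  have key : ∀ n, ∃ f : Γ(kf i n F, U.1) →ₗ[Γ(X, U.1)] Γ(F, U.1), Function.Injective f ∧
      LinearMap.range f ≤ i.ker.ideal U ^ n • (⊤ : Submodule Γ(X, U.1) Γ(F, U.1)) := by
    intro n
    induction n with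
    | zero =>
      refine ⟨LinearMap.id, fun _ _ h => h, ?_⟩
      rw [pow_zero, Ideal.one_eq_top, Submodule.top_smul]
      exact le_top
    | succ n ih =>
      obtain ⟨f, hf, hr⟩ := ih
      refine ⟨f.comp (QCoh.appLinear (kfι i n F) U.1),
        hf.comp (Cohom.app_injective_of_mono (kfι i n F) U.1), ?_⟩
      rintro _ ⟨m, rfl⟩
      have h1 := Submodule.mem_map_of_mem (f := f) (app_kfι_mem i hF n U m)
      rw [Submodule.map_smul'', Submodule.map_top] at h1
      rw [pow_succ', Submodule.mul_smul]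
      exact Submodule.smul_mono le_rfl hr h1
  intro n hn m
  obtain ⟨f, hf, hr⟩ := key n
  refine hf ((eq_bot_iff.1 hN ?_).trans (map_zero f).symm)
  exact Submodule.smul_mono_left (Ideal.pow_le_pow_right hn) (hr ⟨m, rfl⟩)

omit [IsClosedImmersion i] [IsLocallyNoetherian X] in
theorem support_kf_subset {F : X.Modules} : ∀ n, CohB1.support (kf i n F) ⊆ CohB1.support F
  | 0 => subset_rfl
  | n + 1 => (QCoh.support_subset_of_mono (kfι i n F)).trans (support_kf_subset n)

theorem locallyFinite_kf {F : X.Modules} (hF : Coh.IsCoh F)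
    (hs : CohB1.support F ⊆ Set.range i) :
    LF fun n : ULift.{u} ℕ => kf i n.down F := by
  refine ⟨fun n => isCoh_kf i hF _, fun x => ?_⟩
  obtain ⟨U, hU, hxU, -⟩ := Opens.isBasis_iff_nbhd.1 X.isBasis_affineOpens (Opens.mem_top x)
  obtain ⟨N, hN⟩ := exists_ideal_pow_smul_eq_bot i hF hs ⟨U, hU⟩
  refine ⟨U, U.isOpen.mem_nhds hxU,
    ((Set.finite_Iio N).preimage ULift.down_injective.injOn).subset ?_⟩
  rintro ⟨n⟩ ⟨y, hy, hyU⟩
  by_contra hn
  haveI := (isCoh_kf i hF n).1
  refine hy (subsingleton_of_forall_eq 0 fun e => ?_)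
  obtain ⟨c, z, hc, hz⟩ := WeakAss.exists_smul_eq_germ hU hyU e
  have hu : IsUnit (X.presheaf.germ U y hyU c) :=
    (Scheme.mem_basicOpen _ c y hyU).mp (WeakAss.notMem_primeAt_iff.mp hc)
  exact hu.smul_eq_zero.1 (hz.trans (by
    rw [kf_sections_eq_zero i hF ⟨U, hU⟩ hN n (not_lt.1 hn) z, map_zero]))

end GrothLib.K0Sub
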