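import Groth.Agent.Lib.K0Sub.Basic
import Mathlib.CategoryTheory.Abelian.Exact
import Mathlib.CategoryTheory.Limits.Shapes.Pullback.CommSq

/-!
# Dévissage for `K₀`

If every object of `P` has a finite filtration with quotients in `Q ⊆ P`, then `K₀(Q) ≅ K₀(P)`.
-/

universe v u

open CategoryTheory CategoryTheory.Limits

namespace GrothLib.K0Sub

variable {C : Type u} [Category.{v} C] [Abelian C]

/-- Closure properties for dévissage. -/
structure DevHyp (P Q : ObjectProperty C) : Prop where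
  le : ∀ X, Q X → P X
  iso : ∀ {X Y : C}, (X ≅ Y) → P X → P Y
  ker : ∀ {X Y : C} (f : X ⟶ Y), P X → P Y → P (kernel f)
  coker : ∀ {X Y : C} (f : X ⟶ Y), P X → P Y → P (cokernel f)
  ext : ∀ S : ShortComplex C, S.ShortExact → P S.X₁ → P S.X₃ → P S.X₂
  sub : ∀ S : ShortComplex C, S.ShortExact → P S.X₁ → Q S.X₂ → P S.X₃ → Q S.X₁ ∧ Q S.X₃
  biprod : ∀ {X Y : C}, Q X → Q Y → Q (X ⊞ Y)

variable {P Q : ObjectProperty C}

theorem shortExact_isIso {X Y : C} (e : X ⟶ Y) [IsIso e] :
    (ShortComplex.mk (kernel.ι e) e (kernel.condition e)).ShortExact ∧ IsZero (kernel e) :=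
  ⟨shortExact_kernel e, isZero_kernel_of_mono e⟩

theorem DevHyp.imageP (h : DevHyp P Q) {X Y : C} (f : X ⟶ Y) (hX : P X) (hY : P Y) :
    P (Abelian.image f) :=
  h.ker _ hY (h.coker f hX hY)

theorem DevHyp.kernelQ (h : DevHyp P Q) {X Y : C} (f : X ⟶ Y) [Epi f] (hX : Q X) (hY : P Y) :
    Q (kernel f) ∧ Q Y :=
  h.sub _ (shortExact_kernel f) (h.ker f (h.le _ hX) hY) hX hY

theorem shortExact_image {X Y : C} (f : X ⟶ Y) :
    (ShortComplex.mk (Abelian.image.ι f) (cokernel.π f) (kernel.condition _)).ShortExact :=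
  { exact := ShortComplex.exact_of_f_is_kernel _ (kernelIsKernel (cokernel.π f)) }

theorem DevHyp.imageQ (h : DevHyp P Q) {X Y : C} (f : X ⟶ Y) (hX : P X) (hY : Q Y) :
    Q (Abelian.image f) ∧ Q (cokernel f) :=
  h.sub _ (shortExact_image f) (h.imageP f hX (h.le _ hY)) hY (h.coker f hX (h.le _ hY))

theorem DevHyp.clSub_iso (h : DevHyp P Q) {X Y : C} (e : X ≅ Y) (hX : Q X) (hY : P Y) :
    Q Y ∧ KZero.clSub Q X = KZero.clSub Q Y := by
  obtain ⟨hk, hY'⟩ := h.kernelQ e.hom hX hY
  refine ⟨hY', ?_⟩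
  have := clSub_add (shortExact_kernel e.hom) hk hX hY'
  rwa [clSub_isZero (isZero_kernel_of_mono e.hom), zero_add] at this

/-- `F` has a filtration of length `n` with quotients in `Q` of total class `c`. -/
def FR (P Q : ObjectProperty C) : ℕ → C → KZero.K0sub Q → Prop
  | 0, F, c => Q F ∧ c = KZero.clSub Q F
  | n + 1, F, c => P F ∧ ∃ (T : C) (q : F ⟶ T) (a : KZero.K0sub Q), Epi q ∧ Q T ∧
      FR P Q n (kernel q) a ∧ c = a + KZero.clSub Q T

theorem FR.mem (h : DevHyp P Q) : ∀ {n : ℕ} {F : C} {c}, FR P Q n F c → P F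
  | 0, _, _, hR => h.le _ hR.1
  | _ + 1, _, _, hR => hR.1

theorem FR.congr (h : DevHyp P Q) : ∀ {n : ℕ} {F G : C} (_ : F ≅ G) {c}, FR P Q n F c →
    FR P Q n G c
  | 0, F, G, e, c, hR => by
    obtain ⟨h1, h2⟩ := h.clSub_iso e hR.1 (h.iso e (h.le _ hR.1))
    exact ⟨h1, hR.2.trans h2⟩
  | n + 1, F, G, e, c, hR => by
    obtain ⟨hF, T, q, a, hq, hT, ha, hc⟩ := hR
    refine ⟨h.iso e hF, T, e.inv ≫ q, a, epi_comp _ _, hT, FR.congr h ?_ ha, hc⟩
    exact kernel.mapIso q (e.inv ≫ q) e (Iso.refl _) (by simp)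

theorem FR.succ (h : DevHyp P Q) : ∀ {n : ℕ} {F : C} {c}, FR P Q n F c → FR P Q (n + 1) F c
  | 0, F, c, hR => by
    obtain ⟨hk, -⟩ := h.kernelQ (𝟙 F) hR.1 (h.le _ hR.1)
    refine ⟨h.le _ hR.1, F, 𝟙 F, 0, inferInstance, hR.1, ⟨hk, ?_⟩, by rw [zero_add]; exact hR.2⟩
    rw [clSub_isZero (isZero_kernel_of_mono (𝟙 F))]
  | n + 1, F, c, hR => by
    obtain ⟨hF, T, q, a, hq, hT, ha, hc⟩ := hR
    exact ⟨hF, T, q, a, hq, hT, FR.succ h ha, hc⟩

theorem FR.mono (h : DevHyp P Q) {n m : ℕ} (hnm : n ≤ m) {F : C} {c} (hR : FR P Q n F c) :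
    FR P Q m F c := by
  induction hnm with
  | refl => exact hR
  | step _ ih => exact FR.succ h ih

/-- Kernels of a map of short exact sequences with first component an epimorphism. -/
theorem shortExact_kernels {S T : ShortComplex C} (φ : S ⟶ T) (hS : S.ShortExact)
    (hT : T.ShortExact) [Epi φ.τ₁] :
    ∃ (a : kernel φ.τ₁ ⟶ kernel φ.τ₂) (b : kernel φ.τ₂ ⟶ kernel φ.τ₃) (w : a ≫ b = 0),
      (ShortComplex.mk a b w).ShortExact := by
  haveI := hS.mono_f
  haveI := hS.epi_g
  haveI := hT.mono_f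
  let a := kernel.map φ.τ₁ φ.τ₂ S.f T.f φ.comm₁₂
  let b := kernel.map φ.τ₂ φ.τ₃ S.g T.g φ.comm₂₃
  have w : a ≫ b = 0 := by
    rw [← cancel_mono (kernel.ι φ.τ₃)]
    simp [a, b]
  refine ⟨a, b, w, { exact := ?_, mono_f := ?_, epi_g := ?_ }⟩
  · rw [ShortComplex.exact_iff_exact_up_to_refinements]
    intro A x hx
    have h1 : (x ≫ kernel.ι φ.τ₂) ≫ S.g = 0 := by
      simpa [b] using congrArg (· ≫ kernel.ι φ.τ₃) hx
    have h2 : hS.exact.lift _ h1 ≫ φ.τ₁ = 0 := by
      rw [← cancel_mono T.f, Category.assoc, φ.comm₁₂, ← Category.assoc, hS.exact.lift_f]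
      simp
    refine ⟨A, 𝟙 A, inferInstance, kernel.lift _ _ h2, ?_⟩
    rw [Category.id_comp, ← cancel_mono (kernel.ι φ.τ₂)]
    simp [a, hS.exact.lift_f]
  · have : a ≫ kernel.ι φ.τ₂ = kernel.ι φ.τ₁ ≫ S.f := kernel.lift_ι _ _ _
    exact mono_of_mono_fac this
  · rw [epi_iff_surjective_up_to_refinements]
    intro A y
    obtain ⟨A', π, hπ, z, hz⟩ := surjective_up_to_refinements_of_epi S.g (y ≫ kernel.ι φ.τ₃)
    have h1 : (z ≫ φ.τ₂) ≫ T.g = 0 := by
      rw [Category.assoc, φ.comm₂₃, ← reassoc_of% hz]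
      simp
    obtain ⟨A'', π', hπ', u, hu⟩ := surjective_up_to_refinements_of_epi φ.τ₁ (hT.exact.lift _ h1)
    refine ⟨A'', π' ≫ π, epi_comp _ _, kernel.lift φ.τ₂ (π' ≫ z - u ≫ S.f) ?_, ?_⟩
    · rw [Preadditive.sub_comp, Category.assoc, Category.assoc, ← φ.comm₁₂, ← reassoc_of% hu,
        hT.exact.lift_f, sub_self]
    · rw [← cancel_mono (kernel.ι φ.τ₃)]
      simp [b, hz]

/-- Filtrations restrict to subobjects and quotients, and the classes add. -/
theorem FR.add (h : DevHyp P Q) : ∀ {n : ℕ} (S : ShortComplex C) {c}, S.ShortExact → P S.X₁ →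
    P S.X₃ → FR P Q n S.X₂ c → ∃ c' c'', FR P Q n S.X₁ c' ∧ FR P Q n S.X₃ c'' ∧ c = c' + c''
  | 0, S, c, hS, h₁, h₃, hR => by
    obtain ⟨q₁, q₃⟩ := h.sub S hS h₁ hR.1 h₃
    exact ⟨_, _, ⟨q₁, rfl⟩, ⟨q₃, rfl⟩, hR.2.trans (clSub_add hS q₁ hR.1 q₃)⟩
  | n + 1, S, c, hS, h₁, h₃, hR => by
    obtain ⟨h₂, T, q, a, hq, hT, ha, hc⟩ := hR
    haveI := hS.epi_g
    let f := S.f ≫ q
    obtain ⟨qi, qc⟩ := h.imageQ f h₁ hT
    let R : ShortComplex C := ShortComplex.mk (Abelian.image.ι f) (cokernel.π f) (kernel.condition _)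
    have hR' : R.ShortExact := shortExact_image f
    let d : S.X₃ ⟶ cokernel f :=
      hS.exact.desc (q ≫ cokernel.π f) (by rw [← Category.assoc]; exact cokernel.condition f)
    let φ : S ⟶ R :=
      { τ₁ := Abelian.factorThruImage f
        τ₂ := q
        τ₃ := d
        comm₁₂ := Abelian.image.fac f
        comm₂₃ := (hS.exact.g_desc _ _).symm }
    haveI : Epi φ.τ₁ := inferInstanceAs (Epi (Abelian.factorThruImage f))
    haveI : Epi φ.τ₃ := by
      have : S.g ≫ φ.τ₃ = q ≫ cokernel.π f := hS.exact.g_desc _ _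
      haveI : Epi (S.g ≫ φ.τ₃) := this ▸ epi_comp _ _
      exact epi_of_epi S.g φ.τ₃
    obtain ⟨x, y, w, hK⟩ := shortExact_kernels φ hS hR'
    obtain ⟨a', a'', r', r'', e⟩ := FR.add h _ hK (h.ker _ h₁ (h.le _ qi)) (h.ker _ h₃ (h.le _ qc)) ha
    refine ⟨_, _, ⟨h₁, _, φ.τ₁, a', inferInstance, qi, r', rfl⟩,
      ⟨h₃, _, φ.τ₃, a'', inferInstance, qc, r'', rfl⟩, ?_⟩
    rw [hc, e, clSub_add hR' qi hT qc]
    change a' + a'' + (KZero.clSub Q (Abelian.image f) + KZero.clSub Q (cokernel f)) = _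
    abel

theorem FR.unique (h : DevHyp P Q) : ∀ {n : ℕ} {F : C} {c c'},
    FR P Q n F c → FR P Q n F c' → c = c'
  | 0, _, _, _, hR, hR' => hR.2.trans hR'.2.symm
  | n + 1, F, c, c', hR, hR' => by
    obtain ⟨hF, TA, qA, a, hqA, hTA, ha, rfl⟩ := hR
    obtain ⟨-, TB, qB, b, hqB, hTB, hb, rfl⟩ := hR'
    let l := biprod.lift qA qB
    have hl : Q (Abelian.image l) := (h.imageQ l hF (h.biprod hTA hTB)).1
    -- one side: `a = class of kernel l + [image of kernel qA in TB]`
    have side : ∀ {T T' : C} (q : F ⟶ T) (q' : F ⟶ T') (_ : Epi q) (_ : Q T) (_ : Q T')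
        (_ : ∀ {W : C} (z : W ⟶ F), z ≫ l = 0 ↔ z ≫ q = 0 ∧ z ≫ q' = 0)
        (p : Abelian.image l ⟶ T) (_ : Abelian.factorThruImage l ≫ p = q)
        (p' : Abelian.image l ⟶ T') (_ : Abelian.factorThruImage l ≫ p' = q')
        {a : KZero.K0sub Q}, FR P Q n (kernel q) a →
        ∃ d, FR P Q n (kernel l) d ∧
          a + KZero.clSub Q T = d + KZero.clSub Q (Abelian.image l) := by
      intro T T' q q' hq hT hT' hker p hp p' hp' a ha
      let f := kernel.ι q ≫ q'
      obtain ⟨qI, -⟩ := h.imageQ f (FR.mem h ha) hT'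
      let S : ShortComplex C :=
        ShortComplex.mk (kernel.ι (Abelian.factorThruImage f)) (Abelian.factorThruImage f)
          (kernel.condition _)
      obtain ⟨c1, c2, r1, r2, e⟩ := FR.add h S (shortExact_kernel _)
        (h.ker _ (FR.mem h ha) (h.le _ qI)) (h.le _ qI) ha
      have e2 : c2 = KZero.clSub Q (Abelian.image f) :=
        FR.unique h r2 (FR.mono h (Nat.zero_le n) ⟨qI, rfl⟩)
      let i : kernel (Abelian.factorThruImage f) ≅ kernel l :=
        { hom := kernel.lift l (kernel.ι _ ≫ kernel.ι q) ((hker _).mpr ⟨by simp, by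
            have : kernel.ι (Abelian.factorThruImage f) ≫ f = 0 := by
              rw [show kernel.ι (Abelian.factorThruImage f) ≫ f =
                (kernel.ι (Abelian.factorThruImage f) ≫ Abelian.factorThruImage f) ≫ Abelian.image.ι f from
                (congrArg (kernel.ι (Abelian.factorThruImage f) ≫ ·) (Abelian.image.fac f).symm).trans
                  (Category.assoc _ _ _).symm, kernel.condition, zero_comp]
            simpa [f] using this⟩)
          inv := kernel.lift _ (kernel.lift q (kernel.ι l) ((hker _).mp (kernel.condition l)).1) (by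
            rw [← cancel_mono (Abelian.image.ι f), Category.assoc, Abelian.image.fac, zero_comp]
            simp [f, ((hker _).mp (kernel.condition l)).2])
          hom_inv_id := by
            rw [← cancel_mono (kernel.ι _), ← cancel_mono (kernel.ι q)]
            simp
          inv_hom_id := by
            rw [← cancel_mono (kernel.ι l)]
            simp }
      refine ⟨c1, FR.congr h i r1, ?_⟩
      -- the exact sequence `image f → image l → T`
      let j : Abelian.image f ⟶ Abelian.image l :=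
        (shortExact_kernel (Abelian.factorThruImage f)).exact.desc
          (kernel.ι q ≫ Abelian.factorThruImage l) (by
          have h0 : (kernel.ι (Abelian.factorThruImage f) ≫ kernel.ι q) ≫ l = 0 :=
            (hker _).mpr ⟨by simp, by
              have : kernel.ι (Abelian.factorThruImage f) ≫ f = 0 := by
                rw [show kernel.ι (Abelian.factorThruImage f) ≫ f =
                  (kernel.ι (Abelian.factorThruImage f) ≫ Abelian.factorThruImage f) ≫ Abelian.image.ι f from
                  (congrArg (kernel.ι (Abelian.factorThruImage f) ≫ ·) (Abelian.image.fac f).symm).trans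
                    (Category.assoc _ _ _).symm, kernel.condition, zero_comp]
              simpa [f] using this⟩
          rw [← cancel_mono (Abelian.image.ι l), zero_comp]
          simpa [Abelian.image.fac] using h0)
      have hj : Abelian.factorThruImage f ≫ j = kernel.ι q ≫ Abelian.factorThruImage l :=
        (shortExact_kernel (Abelian.factorThruImage f)).exact.g_desc _ _
      have hjp : j ≫ p = 0 := by
        rw [← cancel_epi (Abelian.factorThruImage f), reassoc_of% hj, hp, kernel.condition,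
          comp_zero]
      have hjp' : j ≫ p' = Abelian.image.ι f := by
        rw [← cancel_epi (Abelian.factorThruImage f), reassoc_of% hj, hp', Abelian.image.fac]
      haveI : Mono j := by
        haveI : Mono (j ≫ p') := hjp' ▸ inferInstance
        exact mono_of_mono j p'
      haveI : Epi p := by
        haveI : Epi (Abelian.factorThruImage l ≫ p) := hp ▸ hq
        exact epi_of_epi (Abelian.factorThruImage l) p
      have hW : (ShortComplex.mk j p hjp).ShortExact :=
        { exact := by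
            rw [ShortComplex.exact_iff_exact_up_to_refinements]
            intro A x hx
            obtain ⟨A', π, hπ, y, hy⟩ :=
              surjective_up_to_refinements_of_epi (Abelian.factorThruImage l) x
            have hy0 : y ≫ q = 0 := by
              rw [← hp, ← reassoc_of% hy, hx, comp_zero]
            refine ⟨A', π, hπ, kernel.lift q y hy0 ≫ Abelian.factorThruImage f, ?_⟩
            rw [Category.assoc, hj, kernel.lift_ι_assoc, hy] }
      rw [e, e2, clSub_add hW qI hl hT]
      change c1 + KZero.clSub Q (Abelian.image f) + KZero.clSub Q T =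
        c1 + (KZero.clSub Q (Abelian.image f) + KZero.clSub Q T)
      abel
    obtain ⟨d, rd, ed⟩ := side qA qB hqA hTA hTB (fun z => by
        constructor
        · intro hz
          exact ⟨by simpa [l] using congrArg (· ≫ biprod.fst) hz,
            by simpa [l] using congrArg (· ≫ biprod.snd) hz⟩
        · intro hz
          ext <;> simp [l, hz.1, hz.2])
      (Abelian.image.ι l ≫ biprod.fst) (by simp [l]) (Abelian.image.ι l ≫ biprod.snd) (by simp [l]) ha
    obtain ⟨d', rd', ed'⟩ := side qB qA hqB hTB hTA (fun z => by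
        constructor
        · intro hz
          exact ⟨by simpa [l] using congrArg (· ≫ biprod.snd) hz,
            by simpa [l] using congrArg (· ≫ biprod.fst) hz⟩
        · intro hz
          ext <;> simp [l, hz.1, hz.2])
      (Abelian.image.ι l ≫ biprod.snd) (by simp [l]) (Abelian.image.ι l ≫ biprod.fst) (by simp [l]) hb
    rw [ed, ed', FR.unique h rd rd']

/-- An extension of two filtered objects is filtered. -/
theorem FR.ext (h : DevHyp P Q) : ∀ {n : ℕ} (S : ShortComplex C) {m : ℕ} {a b}, S.ShortExact →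
    FR P Q m S.X₁ a → FR P Q n S.X₃ b → ∃ k c, FR P Q k S.X₂ c
  | 0, S, m, a, b, hS, ha, hb => by
    haveI := hS.epi_g
    let e : S.X₁ ≅ kernel S.g := IsLimit.conePointUniqueUpToIso hS.fIsKernel (limit.isLimit _)
    exact ⟨m + 1, _, h.ext S hS (FR.mem h ha) (h.le _ hb.1), _, S.g, a, inferInstance, hb.1,
      FR.congr h e ha, rfl⟩
  | n + 1, S, m, a, b, hS, ha, hb => by
    obtain ⟨h₃, T, q, a'', hq, hT, ha'', -⟩ := hb
    haveI := hS.epi_g
    have h₂ : P S.X₂ := h.ext S hS (FR.mem h ha) h₃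
    let A := kernel (S.g ≫ q)
    let b' : A ⟶ kernel q := kernel.lift q (kernel.ι _ ≫ S.g) (by simp)
    let x : S.X₁ ⟶ A := kernel.lift _ S.f (by simp)
    have w : x ≫ b' = 0 := by
      rw [← cancel_mono (kernel.ι q)]
      simp [x, b']
    haveI := hS.mono_f
    have hW : (ShortComplex.mk x b' w).ShortExact :=
      { exact := by
          rw [ShortComplex.exact_iff_exact_up_to_refinements]
          intro W z hz
          have h1 : (z ≫ kernel.ι (S.g ≫ q)) ≫ S.g = 0 := by
            simpa [b'] using congrArg (· ≫ kernel.ι q) hz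
          refine ⟨W, 𝟙 W, inferInstance, hS.exact.lift _ h1, ?_⟩
          rw [Category.id_comp, ← cancel_mono (kernel.ι (S.g ≫ q))]
          simp [x, hS.exact.lift_f]
        mono_f := mono_of_mono_fac (kernel.lift_ι _ _ _ : x ≫ kernel.ι (S.g ≫ q) = S.f)
        epi_g := by
          rw [epi_iff_surjective_up_to_refinements]
          intro W y
          obtain ⟨W', π, hπ, z, hz⟩ := surjective_up_to_refinements_of_epi S.g (y ≫ kernel.ι q)
          refine ⟨W', π, hπ, kernel.lift _ z (by rw [← reassoc_of% hz]; simp), ?_⟩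
          rw [← cancel_mono (kernel.ι q)]
          simp [b', hz] }
    obtain ⟨k, c, hk⟩ := FR.ext h _ hW ha ha''
    exact ⟨k + 1, _, h₂, T, S.g ≫ q, c, epi_comp _ _, hT, hk, rfl⟩

/-- The dévissage theorem. -/
theorem bijective_mapSub_of_filtered (h : DevHyp P Q) (hex : ∀ F, P F → ∃ n c, FR P Q n F c) :
    Function.Bijective (SGA6.mapSub (𝟭 C) Q P h.le) := by
  classical
  let φ : C → KZero.K0sub Q := fun A => if hA : P A then (hex A hA).choose_spec.choose else 0
  have hφ : ∀ A, P A → ∃ n, FR P Q n A (φ A) := fun A hA => by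
    simp only [φ, dif_pos hA]
    exact ⟨_, (hex A hA).choose_spec.choose_spec⟩
  have huniq : ∀ A n c, FR P Q n A c → φ A = c := fun A n c hc => by
    obtain ⟨m, hm⟩ := hφ A (FR.mem h hc)
    exact FR.unique h (FR.mono h (le_max_left m n) hm) (FR.mono h (le_max_right m n) hc)
  obtain ⟨ψ, hψ⟩ := exists_lift (P := P) φ fun S hS h₁ h₂ h₃ => by
    obtain ⟨m, hm⟩ := hφ _ h₂
    obtain ⟨c', c'', r', r'', e⟩ := FR.add h S hS h₁ h₃ hm
    rw [e, huniq _ _ _ r', huniq _ _ _ r'']
  have hl : ψ.comp (SGA6.mapSub (𝟭 C) Q P h.le) = AddMonoidHom.id _ :=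
    hom_ext fun X hX => by
      rw [AddMonoidHom.comp_apply, mapSub_clSub _ _ _ hX]
      exact (hψ _ (h.le _ hX)).trans (huniq X 0 _ ⟨hX, rfl⟩)
  have hcls : ∀ n A c, FR P Q n A c →
      SGA6.mapSub (𝟭 C) Q P h.le c = KZero.clSub P A := by
    intro n
    induction n with
    | zero =>
      rintro A _ ⟨hA, rfl⟩
      exact mapSub_clSub _ _ _ hA
    | succ n ih =>
      rintro A _ ⟨hA, T, q, a, hq, hT, ha, rfl⟩
      rw [map_add, ih _ _ ha, mapSub_clSub _ _ _ hT]
      exact (clSub_add (shortExact_kernel q) (FR.mem h ha) hA (h.le _ hT)).symm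
  have hr : (SGA6.mapSub (𝟭 C) Q P h.le).comp ψ = AddMonoidHom.id _ :=
    hom_ext fun X hX => by
      obtain ⟨n, hn⟩ := hφ X hX
      rw [AddMonoidHom.comp_apply, hψ X hX]
      exact hcls n X _ hn
  exact ⟨Function.LeftInverse.injective (DFunLike.congr_fun hl),
    Function.RightInverse.surjective (DFunLike.congr_fun hr)⟩

end GrothLib.K0Sub
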