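import Groth.Agent.Lib.K0Sub.Coh
import Groth.Agent.Lib.K0Sub.Filtered
import Groth.Agent.Lib.QCoh.ClosedImmersion
import Groth.Agent.Lib.QCoh.Extension
import Groth.Agent.Lib.Euler.TensorSupport

/-!
# Coherent modules killed by an ideal and `K₀` of a closed subscheme
-/

universe u

open CategoryTheory CategoryTheory.Limits AlgebraicGeometry TopologicalSpace

namespace GrothLib.K0Sub

variable {X X' : Scheme.{u}} (i : X' ⟶ X) [IsClosedImmersion i]

/-- Coherent modules killed by the ideal of `i`. -/
abbrev killedP : ObjectProperty X.Modules := fun M => Coh.IsCoh M ∧ ClSub.KilledByIdeal i.ker M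

abbrev cohP (X : Scheme.{u}) : ObjectProperty X.Modules := fun M => Coh.IsCoh M

theorem isCoh_ext [IsLocallyNoetherian X] (S : ShortComplex X.Modules) (hS : S.ShortExact)
    (h₁ : Coh.IsCoh S.X₁) (h₃ : Coh.IsCoh S.X₃) : Coh.IsCoh S.X₂ := by
  haveI := h₁.1
  haveI := h₃.1
  haveI := QCoh.isQuasicoherent_X₂ hS
  refine ⟨inferInstance, (QCoh.isFiniteType_iff_moduleFinite _).2 fun U hU => ?_⟩
  haveI := QCoh.moduleFinite_of_isFiniteType S.X₁ h₁.2 hU
  haveI := QCoh.moduleFinite_of_isFiniteType S.X₃ h₃.2 hU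
  have hex : Function.Exact (QCoh.appLinear S.f U) (QCoh.appLinear S.g U) := fun m =>
    ⟨fun hm => QCoh.app_exact hS U m hm, by rintro ⟨a, rfl⟩; exact QCoh.app_comp_zero U a⟩
  exact Module.Finite.of_exact hex (QCoh.app_surjective_of_isAffineOpen hS hU)

theorem devHyp [IsLocallyNoetherian X] : DevHyp (cohP X) (killedP i) where
  le _ h := h.1
  iso e h := QCoh.isCoh_of_iso e h
  ker f h h' := QCoh.isCoh_kernel f h h'
  coker f h h' := QCoh.isCoh_cokernel f h h'
  ext := isCoh_ext
  sub S hS h₁ h₂ h₃ := by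
    haveI := hS.mono_f
    refine ⟨⟨h₁, fun U a ha m => ?_⟩, ⟨h₃, fun U a ha m => ?_⟩⟩
    · refine Cohom.app_injective_of_mono S.f U.1 ?_
      exact ((QCoh.appLinear S.f U.1).map_smul a m).trans ((h₂.2 U a ha _).trans (map_zero _).symm)
    · haveI := h₁.1
      obtain ⟨m, rfl⟩ := QCoh.app_surjective_of_isAffineOpen hS U.2 m
      exact ((QCoh.appLinear S.g U.1).map_smul a m).symm.trans
        ((congrArg _ (h₂.2 U a ha m)).trans (map_zero _))
  biprod hX hY := ⟨QCoh.isCoh_biprod' hX.1 hY.1, QCoh.killedByIdeal_biprod _ hX.2 hY.2⟩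

theorem killedByIdeal_push (N : X'.Modules) : ClSub.KilledByIdeal i.ker ((Coh.push i).obj N) := by
  intro U a ha m
  rw [Scheme.Hom.ker_apply, RingHom.mem_ker] at ha
  change (i.app U.1).hom a • (show Γ(N, i ⁻¹ᵁ U.1) from m) = 0
  rw [ha, zero_smul]

theorem exists_preimage (V : X'.Opens) : ∃ W : X.Opens, i ⁻¹ᵁ W = V := by
  obtain ⟨O, hO, hOV⟩ := i.isClosedEmbedding.isInducing.isOpen_iff.1 V.isOpen
  exact ⟨⟨O, hO⟩, Opens.ext hOV⟩

theorem isIso_of_isIso_push {M N : X'.Modules} (g : M ⟶ N)
    [IsIso ((Scheme.Modules.pushforward i).map g)] : IsIso g := by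
  refine Scheme.Modules.Hom.isIso_iff_isIso_app.mpr fun V => ?_
  obtain ⟨W, rfl⟩ := exists_preimage i V
  exact inferInstanceAs (IsIso (((Scheme.Modules.pushforward i).map g).app W))

theorem faithful_push : (Scheme.Modules.pushforward i).Faithful where
  map_injective {M N} a b h := by
    refine Scheme.Modules.hom_ext _ _ fun V => ?_
    obtain ⟨W, rfl⟩ := exists_preimage i V
    exact congrArg (fun g => Scheme.Modules.Hom.app g W) h

variable [IsLocallyNoetherian X]

theorem isCoh_pullback {F : X.Modules} (hF : killedP i F) :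
    Coh.IsCoh ((Scheme.Modules.pullback i).obj F) := by
  haveI := hF.1.1
  haveI := QCoh.isIso_unit_of_killed i F hF.2
  exact QCoh.isCoh_of_pushforward i _
    (QCoh.isCoh_of_iso (asIso ((Scheme.Modules.pullbackPushforwardAdjunction i).unit.app F)) hF.1)

/-- `K₀` of a closed subscheme is `K₀` of the coherent modules killed by its ideal. -/
theorem bijective_mapSub_push [(Scheme.Modules.pushforward i).Additive]
    [PreservesFiniteLimits (Scheme.Modules.pushforward i)]
    [PreservesFiniteColimits (Scheme.Modules.pushforward i)]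
    (hi : ∀ M : X'.Modules, Coh.IsCoh M → Coh.IsCoh ((Scheme.Modules.pushforward i).obj M)) :
    Function.Bijective (SGA6.mapSub (Scheme.Modules.pushforward i) (cohP X') (killedP i)
      fun M hM => ⟨hi M hM, killedByIdeal_push i M⟩) := by
  haveI : IsLocallyNoetherian X' := LocallyOfFiniteType.isLocallyNoetherian i
  haveI := faithful_push i
  let adj := Scheme.Modules.pullbackPushforwardAdjunction i
  haveI : (Scheme.Modules.pullback i).IsLeftAdjoint := adj.isLeftAdjoint
  obtain ⟨ψ, hψ⟩ := exists_lift (P := killedP i)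
    (fun F => KZero.clSub (cohP X') ((Scheme.Modules.pullback i).obj F))
    fun S hS h₁ h₂ h₃ => by
      haveI := h₁.1.1
      haveI := h₂.1.1
      haveI := h₃.1.1
      haveI e1 : IsIso ((Scheme.Modules.pullbackPushforwardAdjunction i).unit.app S.X₁) :=
        QCoh.isIso_unit_of_killed i _ h₁.2
      haveI e2 : IsIso ((Scheme.Modules.pullbackPushforwardAdjunction i).unit.app S.X₂) :=
        QCoh.isIso_unit_of_killed i _ h₂.2
      haveI e3 : IsIso ((Scheme.Modules.pullbackPushforwardAdjunction i).unit.app S.X₃) :=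
        QCoh.isIso_unit_of_killed i _ h₃.2
      haveI := hS.epi_g
      haveI := hS.mono_f
      haveI : (Scheme.Modules.pullback i).Additive := adj.left_adjoint_additive
      have hT : ((S.map (Scheme.Modules.pullback i)).map (Scheme.Modules.pushforward i)).ShortExact :=
        ShortComplex.shortExact_of_iso (ShortComplex.isoMk
          (@asIso _ _ _ _ _ e1)
          (@asIso _ _ _ _ _ e2)
          (@asIso _ _ _ _ _ e3)
          (adj.unit.naturality S.f).symm (adj.unit.naturality S.g).symm) hS
      haveI : Mono ((S.map (Scheme.Modules.pullback i)).f) :=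
        (Scheme.Modules.pushforward i).mono_of_mono_map hT.mono_f
      haveI : Epi ((S.map (Scheme.Modules.pullback i)).g) :=
        (Scheme.Modules.pushforward i).epi_of_epi_map hT.epi_g
      exact clSub_add (P := cohP X') (S := S.map (Scheme.Modules.pullback i))
        { exact := ((S.map (Scheme.Modules.pullback i)).exact_map_iff_of_faithful
            (Scheme.Modules.pushforward i)).mp hT.exact }
        (isCoh_pullback i h₁) (isCoh_pullback i h₂) (isCoh_pullback i h₃)
  set φ := SGA6.mapSub (Scheme.Modules.pushforward i) (cohP X') (killedP i)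
      fun M hM => ⟨hi M hM, killedByIdeal_push i M⟩
  have hl : ψ.comp φ = AddMonoidHom.id _ := hom_ext fun N hN => by
    rw [AddMonoidHom.comp_apply, mapSub_clSub _ _ _ hN,
      hψ _ ⟨hi N hN, killedByIdeal_push i N⟩]
    haveI := (hi N hN).1
    haveI := QCoh.isIso_unit_of_killed i _ (killedByIdeal_push i N)
    haveI : IsIso ((Scheme.Modules.pushforward i).map (adj.counit.app N)) := by
      have h1 := adj.right_triangle_components N
      haveI : IsIso ((Scheme.Modules.pullbackPushforwardAdjunction i).unit.app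
          ((Scheme.Modules.pushforward i).obj N)) := inferInstance
      rw [show (Scheme.Modules.pushforward i).map (adj.counit.app N) =
        inv ((Scheme.Modules.pullbackPushforwardAdjunction i).unit.app
          ((Scheme.Modules.pushforward i).obj N)) from (IsIso.eq_inv_of_hom_inv_id h1)]
      infer_instance
    haveI := isIso_of_isIso_push i (adj.counit.app N)
    exact clSub_coh_iso (asIso (adj.counit.app N))
  have hr : φ.comp ψ = AddMonoidHom.id _ := hom_ext fun F hF => by
    rw [AddMonoidHom.comp_apply, hψ F hF, mapSub_clSub _ _ _ (isCoh_pullback i hF)]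
    haveI := hF.1.1
    haveI := QCoh.isIso_unit_of_killed i F hF.2
    exact ((devHyp i).clSub_iso (asIso (adj.unit.app F)) hF (hi _ (isCoh_pullback i hF))).2.symm
  exact ⟨Function.LeftInverse.injective (DFunLike.congr_fun hl),
    Function.RightInverse.surjective (DFunLike.congr_fun hr)⟩

omit [IsLocallyNoetherian X] in
/-- Coherent modules supported in `i` have finite filtrations with killed quotients, when `i` is
surjective. -/
theorem exists_filtration_of_surjective [IsNoetherian X] [Surjective i] (F : X.Modules)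
    (hF : Coh.IsCoh F) : ∃ n c, FR (cohP X) (killedP i) n F c := by
  have h := devHyp (X := X) i
  refine (QCoh.devissage (fun M => Coh.IsCoh M ∧ ∃ n c, FR (cohP X) (killedP i) n M c)
    ?_ ?_ ?_ Set.univ ?_ F hF (Set.subset_univ _)).2
  · rintro M N ⟨e⟩ ⟨hM, n, c, hc⟩
    exact ⟨QCoh.isCoh_of_iso e hM, n, c, FR.congr h e hc⟩
  · intro M hM
    have hk : Coh.IsCoh M := Euler.isCoh_of_isZero hM
    refine ⟨hk, 0, _, ⟨hk, fun U a _ m => ?_⟩, rfl⟩
    have key : ∀ x : Γ(M, U.1), x = 0 := fun x => by
      have := congrArg (fun g : M ⟶ M => g.app U.1 x) (hM.eq_of_src (𝟙 M) 0)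
      simpa using this
    exact key _
  · intro S hS h₁ h₂ h₃
    refine ⟨fun _ b => ⟨h₃, ?_⟩, fun a c => ⟨h₂, ?_⟩, fun b _ => ⟨h₁, ?_⟩⟩
    · obtain ⟨-, n, c, hc⟩ := b
      obtain ⟨c', c'', -, r'', -⟩ := FR.add h S hS h₁ h₃ hc
      exact ⟨n, c'', r''⟩
    · obtain ⟨-, m, a, ha⟩ := a
      obtain ⟨-, n, b, hb⟩ := c
      exact FR.ext h S hS ha hb
    · obtain ⟨-, n, c, hc⟩ := b
      obtain ⟨c', c'', r', -, -⟩ := FR.add h S hS h₁ h₃ hc
      exact ⟨n, c', r'⟩
  · intro Z j _ _ _
    obtain ⟨hc, hs, hst⟩ := closureSheaf_data (j (genericPoint Z))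
    have hr := QCoh.closure_singleton_eq_range j
    refine ⟨_, hc, hr ▸ hs, hst, hc, 0, _, ⟨hc, ?_⟩, rfl⟩
    intro U a ha m
    have hle : i.ker ≤ IntMult.ptIdeal (j (genericPoint Z)) := by
      refine Scheme.IdealSheafData.le_support_iff_le_vanishingIdeal.1 fun z _ => ?_
      change z ∈ (i.ker.support : Set X)
      rw [Scheme.Hom.support_ker i]
      exact subset_closure (i.surjective z)
    have := QCoh.pushUnit_killedByIdeal (IntMult.ptIdeal (j (genericPoint Z))).subschemeι U a
    rw [Scheme.IdealSheafData.ker_subschemeι] at this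
    exact this (hle U ha) m

end GrothLib.K0Sub
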