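import Groth.Agent.Lib.K0Sub.PushComp
import Groth.Agent.Lib.ProjFormula.Iso
import Groth.Agent.Lib.GrTilde.Mul
import Groth.Agent.Lib.Euler.TensorSupport
import Groth.Agent.Lib.OX.Tensor

/-!
Classes of resolved modules tensored by bundles.
-/

set_option autoImplicit false
universe u

open CategoryTheory CategoryTheory.Limits AlgebraicGeometry

namespace GrothLib.K0Sub

variable {Y : Scheme.{u}}

theorem exists_tensor (E : Y.Modules) (hE : FlatMod.IsFinLocFree E) :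
    ∃ θ : SGA6.Kvb Y →+ SGA6.Kvb Y, ∀ L : Y.Modules, FlatMod.IsFinLocFree L →
      θ (KRR.cl Y L) = KRR.cl Y (CohB1.tensorMod L E) :=
  exists_lift (P := KRR.vbP Y) (fun L => KRR.cl Y (CohB1.tensorMod L E)) fun S hS h₁ h₂ h₃ =>
    clSub_add (P := KRR.vbP Y) (S := S.map ((DCoh.tensorBi (X := Y)).flip.obj E))
      (OX.tensor_map_shortExact (OX.flat_of_isFinLocFree hE) hS)
      (OX.isFinLocFree_tensor h₁ hE) (OX.isFinLocFree_tensor h₂ hE) (OX.isFinLocFree_tensor h₃ hE)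

theorem R_tensor [IsLocallyNoetherian Y] {E : Y.Modules} (hE : FlatMod.IsFinLocFree E)
    {θ : SGA6.Kvb Y →+ SGA6.Kvb Y}
    (hθ : ∀ L : Y.Modules, FlatMod.IsFinLocFree L → θ (KRR.cl Y L) = KRR.cl Y (CohB1.tensorMod L E)) :
    ∀ (n : ℕ) (M : Y.Modules) (c : SGA6.Kvb Y), R (KRR.vbP Y) (cohP Y) n M c →
      R (KRR.vbP Y) (cohP Y) n (CohB1.tensorMod M E) (θ c)
  | 0, M, c, hR => ⟨OX.isFinLocFree_tensor hR.1 hE, by rw [hR.2]; exact hθ M hR.1⟩
  | n + 1, M, c, hR => by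
    obtain ⟨hM, S, c', hS, rfl, hL, hK, rfl⟩ := hR
    exact ⟨Euler.isCoh_tF hM hE, S.map ((DCoh.tensorBi (X := Y)).flip.obj E), θ c',
      OX.tensor_map_shortExact (OX.flat_of_isFinLocFree hE) hS, rfl, OX.isFinLocFree_tensor hL hE,
      R_tensor hE hθ n _ _ hK, by rw [map_sub, hθ _ hL]; rfl⟩

end GrothLib.K0Sub
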