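import Groth.Prelude.Def_KZero
import Groth.Prelude.Def_SGA6
import Mathlib.Algebra.Homology.ShortComplex.ShortExact
import Mathlib.CategoryTheory.Abelian.Basic
import Mathlib.CategoryTheory.ObjectProperty.Basic

/-!
# Classes in `KZero.K0sub`
-/

universe v u v' u'

open CategoryTheory CategoryTheory.Limits

namespace GrothLib.K0Sub

variable {A : Type u} [Category.{v} A] [Abelian A] {P : ObjectProperty A}

theorem clSub_eq_mk {X : A} (h : P X) :
    KZero.clSub P X = QuotientAddGroup.mk (FreeAbelianGroup.of ⟨X, h⟩) := dif_pos h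

theorem clSub_eq_zero_of_not {X : A} (h : ¬ P X) : KZero.clSub P X = 0 := dif_neg h

theorem clSub_add {S : ShortComplex A} (hS : S.ShortExact) (h₁ : P S.X₁) (h₂ : P S.X₂)
    (h₃ : P S.X₃) : KZero.clSub P S.X₂ = KZero.clSub P S.X₁ + KZero.clSub P S.X₃ := by
  rw [clSub_eq_mk h₁, clSub_eq_mk h₂, clSub_eq_mk h₃, ← QuotientAddGroup.mk_add, eq_comm,
    QuotientAddGroup.eq]
  refine AddSubgroup.subset_closure ⟨S, h₁, h₂, h₃, hS, ?_⟩
  abel

/-- A function on `P`-objects additive on short exact sequences factors through `K₀`. -/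
theorem exists_lift {G : Type*} [AddCommGroup G] (φ : A → G)
    (h : ∀ S : ShortComplex A, S.ShortExact → P S.X₁ → P S.X₂ → P S.X₃ →
      φ S.X₂ = φ S.X₁ + φ S.X₃) :
    ∃ ψ : KZero.K0sub P →+ G, ∀ X, P X → ψ (KZero.clSub P X) = φ X := by
  let ψ₀ : FreeAbelianGroup (Subtype P) →+ G := FreeAbelianGroup.lift fun X => φ X.1
  have hle : KZero.relSub P ≤ ψ₀.ker := by
    rw [KZero.relSub, AddSubgroup.closure_le]
    rintro x ⟨S, h₁, h₂, h₃, hS, rfl⟩
    simp [ψ₀, h S hS h₁ h₂ h₃]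
  exact ⟨QuotientAddGroup.lift _ ψ₀ hle, fun X hX => by
    rw [clSub_eq_mk hX]
    exact FreeAbelianGroup.lift_apply_of _ _⟩

theorem hom_ext {G : Type*} [AddCommGroup G] {f g : KZero.K0sub P →+ G}
    (h : ∀ X, P X → f (KZero.clSub P X) = g (KZero.clSub P X)) : f = g := by
  refine QuotientAddGroup.addMonoidHom_ext _ (FreeAbelianGroup.lift_ext _ _ ?_)
  rintro ⟨X, hX⟩
  have := h X hX
  rwa [clSub_eq_mk hX] at this

theorem mapSub_clSub {B : Type u'} [Category.{v'} B] [Abelian B] (F : A ⥤ B) [F.Additive]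
    [PreservesFiniteLimits F] [PreservesFiniteColimits F] (Q : ObjectProperty B)
    (h : ∀ X, P X → Q (F.obj X)) {X : A} (hX : P X) :
    SGA6.mapSub F P Q h (KZero.clSub P X) = KZero.clSub Q (F.obj X) := by
  rw [clSub_eq_mk hX, clSub_eq_mk (h X hX)]
  rfl

theorem clSub_isZero {Z : A} (hZ : IsZero Z) : KZero.clSub P Z = 0 := by
  by_cases hP : P Z
  · have hS : (ShortComplex.mk (0 : Z ⟶ Z) (0 : Z ⟶ Z) comp_zero).ShortExact :=
      { exact := ShortComplex.exact_of_isZero_X₂ _ hZ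
        mono_f := ⟨fun _ _ _ => hZ.eq_of_tgt _ _⟩
        epi_g := ⟨fun _ _ _ => hZ.eq_of_src _ _⟩ }
    exact left_eq_add.mp (clSub_add hS hP hP hP)
  · exact clSub_eq_zero_of_not hP

theorem shortExact_kernel {X Y : A} (f : X ⟶ Y) [Epi f] :
    (ShortComplex.mk (kernel.ι f) f (kernel.condition f)).ShortExact :=
  { exact := ShortComplex.exact_of_f_is_kernel _ (kernelIsKernel f) }

end GrothLib.K0Sub
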