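import Groth.Prelude.Def_ChowK
import Groth.Agent.Lib.K0Sub.Basic
import Groth.Agent.Lib.QCoh.DevissageSummands
import Groth.Agent.Lib.CycBasic.SheafLength
import Mathlib.Topology.KrullDimension

/-!
# Classes of coherent modules by dimension of support
-/

universe u

open CategoryTheory CategoryTheory.Limits AlgebraicGeometry TopologicalSpace

namespace GrothLib.K0Sub

variable {X : Scheme.{u}}

/-- The structure sheaf of the closure of a point. -/
theorem closureSheaf_data [IsLocallyNoetherian X] (x : X) :
    Coh.IsCoh (Cyc.closureStructureSheaf x) ∧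
      CohB1.support (Cyc.closureStructureSheaf x) ⊆ closure {x} ∧
      Nonempty ((Cyc.closureStructureSheaf x).presheaf.stalk x ≃ₗ[X.presheaf.stalk x]
        IsLocalRing.ResidueField (X.presheaf.stalk x)) := by
  set T : Closeds X := ⟨closure {x}, isClosed_closure⟩
  let i := (IntMult.ptIdeal x).subschemeι
  have hrange : Set.range i = (T : Set X) := RedSub.range_subschemeι_vanishingIdeal T
  have : IsReduced (IntMult.ptIdeal x).subscheme := RedSub.isReduced_subscheme_vanishingIdeal T
  have : IrreducibleSpace (IntMult.ptIdeal x).subscheme := by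
    rw [irreducibleSpace_def, Set.top_eq_univ]
    obtain ⟨z, hz⟩ : x ∈ Set.range i := hrange.symm ▸ subset_closure rfl
    have hpre : closure {z} = (Set.univ : Set _) := by
      rw [i.isClosedEmbedding.isInducing.closure_eq_preimage_closure_image, Set.image_singleton, hz]
      exact Set.eq_univ_of_forall fun w ↦ (hrange ▸ ⟨w, rfl⟩ : i w ∈ (T : Set X))
    exact hpre ▸ isIrreducible_singleton.closure
  have : IsIntegral (IntMult.ptIdeal x).subscheme := isIntegral_of_irreducibleSpace_of_isReduced _
  have hgen : i (genericPoint (IntMult.ptIdeal x).subscheme) = x := by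
    have h1 : closure {i (genericPoint (IntMult.ptIdeal x).subscheme)} = closure {x} :=
      (QCoh.closure_singleton_eq_range i).trans hrange
    exact (inseparable_iff_closure_eq.mpr h1).eq
  refine ⟨QCoh.pushUnit_isCoh i, (QCoh.support_pushforward_subset_range i _).trans hrange.le, ?_⟩
  have := QCoh.nonempty_pushUnit_stalk_equiv i
  rw [hgen] at this
  exact this

/-- A point with strictly larger closure has strictly larger closure dimension. -/
theorem dim_closure_lt {x y : X} (h : y ⤳ x) (hne : y ≠ x) (n : ℕ)
    (hn : (n : WithBot ℕ∞) ≤ topologicalKrullDim ↥(closure ({x} : Set X))) :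
    ((n + 1 : ℕ) : WithBot ℕ∞) ≤ topologicalKrullDim ↥(closure ({y} : Set X)) := by
  obtain ⟨l, hl⟩ := Order.le_krullDim_iff.mp hn
  have hsub : closure ({x} : Set X) ⊆ closure {y} :=
    closure_minimal (Set.singleton_subset_iff.mpr h.mem_closure) isClosed_closure
  let g : closure ({x} : Set X) → closure ({y} : Set X) := Set.inclusion hsub
  have hg : Topology.IsInducing g := (Topology.IsEmbedding.inclusion hsub).isInducing
  have hirr : IrreducibleSpace ↥(closure ({y} : Set X)) :=
    isIrreducible_iff_irreducibleSpace.mp isIrreducible_singleton.closure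
  let top : IrreducibleCloseds ↥(closure ({y} : Set X)) :=
    { carrier := Set.univ
      isIrreducible' := (irreducibleSpace_def _).mp hirr
      isClosed' := isClosed_univ }
  let l' := l.map (IrreducibleCloseds.map g hg.continuous)
    (IrreducibleCloseds.map_strictMono_of_isInducing hg)
  have hlt : l'.last < top := by
    refine lt_of_le_of_ne (fun _ _ => trivial) fun e => ?_
    have h1 : (⟨y, subset_closure rfl⟩ : closure ({y} : Set X)) ∈ l'.last := by rw [e]; trivial
    simp only [l', LTSeries.last_map] at h1
    have h2 : (⟨y, subset_closure rfl⟩ : closure ({y} : Set X)) ∈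
        (Subtype.val ⁻¹' closure ({x} : Set X) : Set (closure ({y} : Set X))) := by
      refine closure_minimal ?_ (isClosed_closure.preimage continuous_subtype_val) h1
      rintro _ ⟨z, -, rfl⟩
      exact z.2
    exact hne ((specializes_iff_mem_closure.mpr h2).antisymm h).eq.symm
  exact Order.le_krullDim_iff.mpr ⟨l'.snoc top hlt, by simp [l', hl]⟩

theorem clSub_coh_iso [IsLocallyNoetherian X] {M N : X.Modules} (e : M ≅ N) :
    KZero.clSub (fun M : X.Modules => Coh.IsCoh M) M = KZero.clSub (fun M : X.Modules => Coh.IsCoh M) N := by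
  by_cases hM : Coh.IsCoh M
  · let S := ShortComplex.mk (kernel.ι e.hom) e.hom (kernel.condition e.hom)
    have hS : S.ShortExact := shortExact_kernel e.hom
    have := clSub_add (P := fun M : X.Modules => Coh.IsCoh M) hS
      (QCoh.isCoh_kernel _ hM (QCoh.isCoh_of_iso e hM)) hM (QCoh.isCoh_of_iso e hM)
    rw [clSub_isZero (isZero_kernel_of_mono e.hom), zero_add] at this
    exact this
  · rw [clSub_eq_zero_of_not hM,
      clSub_eq_zero_of_not (fun hN => hM (QCoh.isCoh_of_iso e.symm hN))]

theorem support_eq_empty_of_isZero {M : X.Modules} (hM : IsZero M) : CohB1.support M = ∅ :=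
  Set.eq_empty_iff_forall_notMem.mpr fun x hx =>
    hx (ModuleCat.subsingleton_of_isZero (Functor.map_isZero (OX.stalk x) hM))

/-- Points whose closure has dimension at most `n`. -/
abbrev dimLE (X : Scheme.{u}) (n : ℕ) : Set X :=
  {x | topologicalKrullDim ↥(closure ({x} : Set X)) ≤ n}

theorem support_subset_dimLE {F : X.Modules} [IsLocallyNoetherian X] (hF : Coh.IsCoh F) {n : ℕ}
    (h : topologicalKrullDim ↥(CohB1.support F) ≤ n) : CohB1.support F ⊆ dimLE X n := fun x hx =>
  (Topology.IsInducing.topologicalKrullDim_le (f := Set.inclusion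
    ((QCoh.isClosed_support_of_isCoh hF).closure_subset_iff.mpr (Set.singleton_subset_iff.mpr hx)))
    (Topology.IsEmbedding.inclusion _).isInducing).trans h

theorem dim_support_closureSheaf_le [IsLocallyNoetherian X] (x : X) :
    topologicalKrullDim ↥(CohB1.support (Cyc.closureStructureSheaf x)) ≤
      topologicalKrullDim ↥(closure ({x} : Set X)) :=
  Topology.IsInducing.topologicalKrullDim_le (f := Set.inclusion (closureSheaf_data x).2.1)
    (Topology.IsEmbedding.inclusion _).isInducing

/-- The weighted classes of the `n`-dimensional points. -/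
noncomputable def cycleClass (n : ℕ) (F : X.Modules) : KZero.K0sub (fun M : X.Modules => Coh.IsCoh M) :=
  finsum fun x : ↥X => if topologicalKrullDim ↥(closure ({x} : Set ↥X)) = n then
    (Module.length (X.presheaf.stalk x) (F.presheaf.stalk x)).toNat •
      KZero.clSub (fun M : X.Modules => Coh.IsCoh M) (Cyc.closureStructureSheaf x) else 0

theorem eq_of_specializes_of_dim {x y : X} {n : ℕ} (hy : y ∈ dimLE X n)
    (hx : topologicalKrullDim ↥(closure ({x} : Set X)) = n) (h : y ⤳ x) : y = x := by
  by_contra hne
  have h1 := (dim_closure_lt h hne n hx.ge).trans hy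
  exact absurd (Nat.cast_le.mp h1) (by omega)

theorem finite_cycle_support [IsNoetherian X] {F : X.Modules} (hF : Coh.IsCoh F) {n : ℕ}
    (h : CohB1.support F ⊆ dimLE X n) :
    {x | x ∈ CohB1.support F ∧ topologicalKrullDim ↥(closure ({x} : Set X)) = n}.Finite := by
  let T := CohB1.support F
  have hT : IsClosed T := QCoh.isClosed_support_of_isCoh hF
  have hTn : NoetherianSpace T := inferInstance
  have hsub : {x | x ∈ T ∧ topologicalKrullDim ↥(closure ({x} : Set X)) = n} ⊆
      ⋃ C ∈ irreducibleComponents T, {x | closure {x} = Subtype.val '' C} := by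
    rintro x ⟨hx, hd⟩
    refine Set.mem_iUnion₂.mpr ⟨irreducibleComponent ⟨x, hx⟩,
      irreducibleComponent_mem_irreducibleComponents _, ?_⟩
    have hC : IsClosed (Subtype.val '' irreducibleComponent (⟨x, hx⟩ : T)) :=
      hT.isClosedEmbedding_subtypeVal.isClosedMap _ isClosed_irreducibleComponent
    obtain ⟨y, hy⟩ := quasiSober_iff _ |>.mp inferInstance
      (isIrreducible_irreducibleComponent.image _ continuous_subtype_val.continuousOn) hC
    have hxy : y ⤳ x := specializes_iff_mem_closure.mpr
      (hy.ge ⟨_, mem_irreducibleComponent, rfl⟩)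
    obtain ⟨y', -, hy'⟩ := hy.le (subset_closure rfl)
    have := eq_of_specializes_of_dim (h (hy' ▸ y'.2)) hd hxy
    subst this
    exact hy
  refine ((NoetherianSpace.finite_irreducibleComponents (α := T)).biUnion fun C _ => ?_).subset hsub
  refine Set.Subsingleton.finite fun a ha b hb => ?_
  exact (inseparable_iff_closure_eq.mpr (ha.trans hb.symm)).eq

theorem cycleClass_add [IsNoetherian X] {S : ShortComplex X.Modules} (hS : S.ShortExact)
    (h₁ : Coh.IsCoh S.X₁) (h₂ : Coh.IsCoh S.X₂) (h₃ : Coh.IsCoh S.X₃) {n : ℕ}
    (h : CohB1.support S.X₂ ⊆ dimLE X n) :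
    cycleClass n S.X₂ = cycleClass n S.X₁ + cycleClass n S.X₃ := by
  classical
  haveI := hS.mono_f
  haveI := hS.epi_g
  have s₁ := QCoh.support_subset_of_mono S.f
  have s₃ := QCoh.support_subset_of_epi S.g
  have hfin : ∀ {F : X.Modules}, Coh.IsCoh F → CohB1.support F ⊆ CohB1.support S.X₂ →
      (Function.support fun x : ↥X => if topologicalKrullDim ↥(closure ({x} : Set ↥X)) = n then
        (Module.length (X.presheaf.stalk x) (F.presheaf.stalk x)).toNat •
          KZero.clSub (fun M : X.Modules => Coh.IsCoh M) (Cyc.closureStructureSheaf x) else 0).Finite := by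
    intro F hF hs
    refine (finite_cycle_support hF (hs.trans h)).subset fun x hx => ?_
    simp only [Function.mem_support, ne_eq, ite_eq_right_iff, not_forall, exists_prop] at hx
    refine ⟨fun hsub => hx.2 ?_, hx.1⟩
    rw [Module.length_eq_zero, ENat.toNat_zero, zero_smul]
  rw [cycleClass, cycleClass, cycleClass, ← finsum_add_distrib (hfin h₁ s₁) (hfin h₃ s₃)]
  refine finsum_congr fun x => ?_
  split_ifs with hx
  · have hmax : ∀ y : X, y ∈ CohB1.support S.X₂ → y ⤳ x → y = x := fun y hy hyx =>
      eq_of_specializes_of_dim (h hy) hx hyx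
    have l1 := CycBasic.length_lt_top_of_maximal h₁ (x := x) fun y hy => hmax y (s₁ hy)
    have l3 := CycBasic.length_lt_top_of_maximal h₃ (x := x) fun y hy => hmax y (s₃ hy)
    have hex : Function.Exact (QCoh.stalkLin S.f x) (QCoh.stalkLin S.g x) :=
      (ShortComplex.ShortExact.moduleCat_exact_iff_function_exact _).1 ((OX.exact_iff S).1 hS.exact x)
    rw [Module.length_eq_add_of_exact _ _ (QCoh.stalkLin_injective S.f x)
      (QCoh.stalkLin_surjective S.g x) hex, ENat.toNat_add l1.ne l3.ne, add_smul]
  · rw [add_zero]

theorem cycleClass_closureSheaf [IsNoetherian X] (x : X) {n : ℕ} (h : x ∈ dimLE X n) :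
    cycleClass n (Cyc.closureStructureSheaf x) =
      if topologicalKrullDim ↥(closure ({x} : Set ↥X)) = n then
        KZero.clSub (fun M : X.Modules => Coh.IsCoh M) (Cyc.closureStructureSheaf x) else 0 := by
  classical
  obtain ⟨-, hsupp, ⟨e⟩⟩ := closureSheaf_data x
  rw [cycleClass, finsum_eq_single _ x]
  · split_ifs with hx
    · rw [e.length_eq]
      have : IsSimpleModule (X.presheaf.stalk x) (IsLocalRing.ResidueField (X.presheaf.stalk x)) :=
        isSimpleModule_iff_quot_maximal.mpr ⟨_, IsLocalRing.maximalIdeal.isMaximal _, ⟨LinearEquiv.refl _ _⟩⟩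
      rw [Module.length_eq_one, ENat.toNat_one, one_smul]
    · rfl
  · intro y hy
    split_ifs with hyn
    · have : y ∉ CohB1.support (Cyc.closureStructureSheaf x) := fun hys =>
        hy (eq_of_specializes_of_dim h hyn (specializes_iff_mem_closure.mpr (hsupp hys))).symm
      have := QCoh.stalk_subsingleton_of_notMem this
      rw [Module.length_eq_zero, ENat.toNat_zero, zero_smul]
    · rfl

end GrothLib.K0Sub
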