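import Groth.Agent.Lib.K0Sub.Localization
import Groth.Agent.Lib.K0Sub.Coh
import Groth.Agent.Lib.Euler.TensorSupport
import Groth.Agent.Lib.DCoh.LocFree
import Groth.Agent.Lib.OX.Support

/-!
# Tensoring by a bundle minus its rank is nilpotent on classes of coherent modules
-/

set_option linter.style.haveILetI false
set_option autoImplicit false
universe u

open CategoryTheory CategoryTheory.Limits AlgebraicGeometry TopologicalSpace

namespace GrothLib.K0Sub

variable {X : Scheme.{u}}

/-- Classes of coherent modules supported in a set. -/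
noncomputable def classesIn (T : Set X) : AddSubgroup (KZero.K0sub (cohP X)) :=
  AddSubgroup.closure {z | ∃ M : X.Modules, Coh.IsCoh M ∧ CohB1.support M ⊆ T ∧ KZero.clSub (cohP X) M = z}

theorem clSub_mem_classesIn {T : Set X} {M : X.Modules} (hM : Coh.IsCoh M) (h : CohB1.support M ⊆ T) :
    KZero.clSub (cohP X) M ∈ classesIn T :=
  AddSubgroup.subset_closure ⟨M, hM, h, rfl⟩

theorem classesIn_empty : classesIn (∅ : Set X) = ⊥ := by
  refine le_antisymm ?_ bot_le
  refine (AddSubgroup.closure_le _).2 ?_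
  rintro _ ⟨M, hM, h, rfl⟩
  refine AddSubgroup.mem_bot.2 (clSub_isZero (OX.isZero_of_subsingleton_stalks M fun x =>
    QCoh.stalk_subsingleton_of_notMem fun hx => h hx))

variable [AlgebraicGeometry.IsNoetherian X] (U : X.Opens)

theorem support_disjoint_of_res_isZero {M : X.Modules} (hM : Coh.IsCoh M)
    (h : IsZero ((res U.ι).obj M)) : CohB1.support M ⊆ (U : Set X)ᶜ := by
  intro x hx hxU
  refine QCoh.notMem_support_of_forall_subsingleton M (W := U) (fun V hV => ?_) hxU hx
  have e : U.ι ''ᵁ (U.ι ⁻¹ᵁ V) = V := by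
    rw [Scheme.Hom.image_preimage_eq_opensRange_inf, Scheme.Opens.opensRange_ι]
    exact inf_eq_right.2 hV
  rw [← e]
  refine subsingleton_of_forall_eq 0 fun m => ?_
  exact congrArg (fun g : (res U.ι).obj M ⟶ (res U.ι).obj M => g.app (U.ι ⁻¹ᵁ V) m) (h.eq_of_src (𝟙 _) 0)

theorem sub_mem_classesIn_of_isIso {T : Set X} {A B : X.Modules} (f : A ⟶ B) (hA : Coh.IsCoh A)
    (hB : Coh.IsCoh B) (sA : CohB1.support A ⊆ T) (sB : CohB1.support B ⊆ T)
    [IsIso ((res U.ι).map f)] :
    KZero.clSub (cohP X) A - KZero.clSub (cohP X) B ∈ classesIn (T ∩ (U : Set X)ᶜ) := by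
  have hK := QCoh.isCoh_kernel f hA hB
  have hC := QCoh.isCoh_cokernel f hA hB
  have hI : Coh.IsCoh (Abelian.image f) := QCoh.isCoh_kernel _ hB hC
  obtain ⟨w, hS⟩ := QCoh.shortExact_kernel_image f
  have e1 := clSub_add (P := cohP X) hS hK hA hI
  have e2 := clSub_add (P := cohP X) (QCoh.shortExact_image_cokernel f) hI hB hC
  have h1 : IsZero ((res U.ι).obj (kernel f)) :=
    (isZero_kernel_of_mono ((res U.ι).map f)).of_iso (PreservesKernel.iso (res U.ι) f)
  have h2 : IsZero ((res U.ι).obj (cokernel f)) :=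
    (isZero_cokernel_of_epi ((res U.ι).map f)).of_iso (PreservesCokernel.iso (res U.ι) f)
  have m1 := clSub_mem_classesIn hK (Set.subset_inter
    ((QCoh.support_subset_of_mono (kernel.ι f)).trans sA) (support_disjoint_of_res_isZero U hK h1))
  have m2 := clSub_mem_classesIn hC (Set.subset_inter
    ((QCoh.support_subset_of_epi (cokernel.π f)).trans sB) (support_disjoint_of_res_isZero U hC h2))
  dsimp only at e1 e2
  rw [e1, e2, show ∀ a b c : KZero.K0sub (cohP X), (a + b) - (b + c) = a - c from fun _ _ _ => by abel]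
  exact AddSubgroup.sub_mem _ m1 m2

theorem sub_mem_classesIn_of_iso {T : Set X} {A B : X.Modules} (hA : Coh.IsCoh A) (hB : Coh.IsCoh B)
    (sA : CohB1.support A ⊆ T) (sB : CohB1.support B ⊆ T) (e : (res U.ι).obj A ≅ (res U.ι).obj B) :
    KZero.clSub (cohP X) A - KZero.clSub (cohP X) B ∈ classesIn (T ∩ (U : Set X)ᶜ) := by
  let j := U.ι
  let a := e
  let b := Iso.refl ((res j).obj B)
  haveI := hA.1
  haveI := hB.1
  haveI : ((res j).obj B).IsQuasicoherent := (Cohom.isCoh_restrict B hB j).1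
  haveI := isQuasicoherent_push_open j ((res j).obj B)
  haveI := (QCoh.isCoh_biprod' hA hB).1
  haveI : (kernel (biprod.desc (adjunct j a.hom) (-(adjunct j b.hom)))).IsQuasicoherent :=
    QCoh.isQuasicoherent_kernel _
  let P := pullback (adjunct j a.hom) (adjunct j b.hom)
  let eP : kernel (biprod.desc (adjunct j a.hom) (-(adjunct j b.hom))) ≅ P :=
    ((Abelian.PullbackToBiproductIsKernel.isLimitPullbackToBiproduct (adjunct j a.hom)
      (adjunct j b.hom)).conePointUniqueUpToIso (kernelIsKernel _)).symm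
  have hP : Coh.IsCoh P := QCoh.isCoh_of_iso eP ⟨inferInstance,
    QCoh.isFiniteType_of_mono (kernel.ι _) (QCoh.isCoh_biprod' hA hB).2⟩
  haveI := isIso_map_adjunct j a.hom
  haveI := isIso_map_adjunct j b.hom
  have H := (IsPullback.of_hasPullback (adjunct j a.hom) (adjunct j b.hom)).map (res j)
  haveI : IsIso ((res j).map (pullback.fst (adjunct j a.hom) (adjunct j b.hom))) :=
    H.isIso_fst_of_isIso
  haveI : IsIso ((res j).map (pullback.snd (adjunct j a.hom) (adjunct j b.hom))) :=
    H.isIso_snd_of_isIso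
  have sP : CohB1.support P ⊆ T := by
    intro x hx
    by_contra hxT
    have s := (QCoh.support_subset_of_mono eP.inv).trans
      (QCoh.support_subset_of_mono (kernel.ι _)) hx
    refine s ?_
    have a₁ := QCoh.stalk_subsingleton_of_notMem (fun h => hxT (sA h))
    have a₂ := QCoh.stalk_subsingleton_of_notMem (fun h => hxT (sB h))
    refine subsingleton_of_forall_eq 0 fun w => ?_
    have h := QCoh.biprod_stalk_total A B x w
    rw [Subsingleton.elim (QCoh.stalkLin biprod.fst x w) 0,
      Subsingleton.elim (QCoh.stalkLin biprod.snd x w) 0, map_zero, map_zero, add_zero] at h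
    exact h.symm
  have m1 := sub_mem_classesIn_of_isIso U (pullback.fst (adjunct j a.hom) (adjunct j b.hom)) hP hA sP sA
  have m2 := sub_mem_classesIn_of_isIso U (pullback.snd (adjunct j a.hom) (adjunct j b.hom)) hP hB sP sB
  have := AddSubgroup.sub_mem _ m2 m1
  rwa [sub_sub_sub_cancel_left] at this

omit [AlgebraicGeometry.IsNoetherian X] in
theorem isFinLocFreeOfRank_freeMod (r : ℕ) : FlatMod.IsFinLocFreeOfRank r (FlatMod.freeMod X r) :=
  fun _ => ⟨⊤, trivial, ⟨DCoh.restrictFreeModIso _ r⟩⟩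

theorem clSub_tensor_freeMod {M : X.Modules} (hM : Coh.IsCoh M) : ∀ n : ℕ,
    KZero.clSub (cohP X) (((DCoh.tensorBi (X := X)).obj M).obj (FlatMod.freeMod X n)) =
      n • KZero.clSub (cohP X) M := by
  intro n
  induction n with
  | zero =>
    rw [zero_smul]
    exact clSub_isZero (((DCoh.tensorBi (X := X)).obj M).map_isZero (Euler.isZero_freeMod_zero X))
  | succ n ih =>
    let T := (DCoh.tensorBi (X := X)).obj M
    let e₁ : T.obj (FlatMod.freeMod X 1) ≅ M :=
      ((Euler.tFUnitIso M).symm ≪≫ T.mapIso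
        (coproductUniqueIso (fun _ : Fin 1 => Coh.structureModule X)).symm).symm
    have h1 := QCoh.isCoh_of_iso e₁.symm hM
    haveI : PreservesColimitsOfSize.{0, 0} T := preservesColimitsOfSize_shrink.{0, u, 0, u} _
    haveI : PreservesBinaryBiproduct (FlatMod.freeMod X n) (FlatMod.freeMod X 1) T :=
      preservesBinaryBiproduct_of_preservesBinaryCoproduct _
    let e₂ : T.obj (FlatMod.freeMod X n) ⊞ T.obj (FlatMod.freeMod X 1) ≅ T.obj (FlatMod.freeMod X (n + 1)) :=
      (T.mapBiprod _ _).symm ≪≫ T.mapIso (DCoh.freeModBiprodIso X n 1)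
    have hn := Euler.isCoh_tensor_freeMod hM n
    have hb := QCoh.isCoh_biprod' hn h1
    have hse : (ShortComplex.mk (biprod.inl : T.obj (FlatMod.freeMod X n) ⟶ _)
        (biprod.snd : _ ⟶ T.obj (FlatMod.freeMod X 1)) biprod.inl_snd).ShortExact :=
      (ShortComplex.Splitting.ofHasBinaryBiproduct _ _).shortExact
    rw [← clSub_coh_iso e₂, clSub_add (P := cohP X) hse hn hb h1, clSub_coh_iso e₁, ih, succ_nsmul]

theorem rank_tensor_sub_mem {T : Set X} {r : ℕ} {V M : X.Modules}
    (hV : FlatMod.IsFinLocFreeOfRank r V) (e : V.restrict U.ι ≅ FlatMod.freeMod (↑U) r)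
    (hM : Coh.IsCoh M) (sM : CohB1.support M ⊆ T) :
    KZero.clSub (cohP X) ((Euler.tF V).obj M) - r • KZero.clSub (cohP X) M ∈
      classesIn (T ∩ (U : Set X)ᶜ) := by
  rw [← clSub_tensor_freeMod hM r]
  refine sub_mem_classesIn_of_iso U (Euler.isCoh_tF hM fun x => ?_) (Euler.isCoh_tensor_freeMod hM r)
    ((Euler.support_tF_subset hV).trans sM)
    ((Euler.support_tF_subset (isFinLocFreeOfRank_freeMod r)).trans sM) ?_
  · obtain ⟨W, hW, hi⟩ := hV x
    exact ⟨W, r, hW, hi⟩
  · let P := Scheme.Modules.restrictFunctorIsoPullback U.ι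
    exact P.app _ ≪≫ OX.pullTensorIso U.ι M V ≪≫
      ((DCoh.tensorBi (X := U.toScheme)).obj _).mapIso ((P.app V).symm ≪≫ e ≪≫
        (DCoh.restrictFreeModIso U.ι r).symm ≪≫ P.app (FlatMod.freeMod X r)) ≪≫
      (OX.pullTensorIso U.ι M (FlatMod.freeMod X r)).symm ≪≫ (P.app _).symm

end GrothLib.K0Sub
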