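import Groth.Agent.Lib.K0Sub.Dev

/-!
# Direct image along a closed immersion is exact
-/

universe u

open CategoryTheory CategoryTheory.Limits AlgebraicGeometry TopologicalSpace Opposite

namespace GrothLib.K0Sub

variable {X Z : Scheme.{u}} (i : Z ⟶ X) [IsClosedImmersion i]

theorem epi_push {M N : Z.Modules} (g : M ⟶ N) [Epi g] :
    Epi ((Scheme.Modules.pushforward i).map g) := by
  refine (OX.epi_iff _).2 fun x => (ModuleCat.epi_iff_surjective _).2 fun e => ?_
  by_cases hx : x ∈ Set.range i
  · obtain ⟨y, rfl⟩ := hx
    obtain ⟨m, hm⟩ := QCoh.stalkLin_surjective g y ((QCoh.pushStalkHom i y N).hom e)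
    obtain ⟨W, hyW, s, rfl⟩ := TopCat.Presheaf.exists_germ_eq M.presheaf m
    obtain ⟨O, rfl⟩ := exists_preimage i W
    refine ⟨((Scheme.Modules.pushforward i).obj M).presheaf.germ O (i y) hyW s, ?_⟩
    apply (QCoh.pushStalkHom_bijective i y N i.isClosedEmbedding.isInducing).1
    refine Eq.trans ?_ hm
    have h1 : QCoh.stalkLin ((Scheme.Modules.pushforward i).map g) (i y)
        (((Scheme.Modules.pushforward i).obj M).presheaf.germ O (i y) hyW s) =
        ((Scheme.Modules.pushforward i).obj N).presheaf.germ O (i y) hyW
          (((Scheme.Modules.pushforward i).map g).app O s) := QCoh.stalkLin_germ _ _ _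
    refine (congrArg (QCoh.pushStalkHom i y N).hom h1).trans ?_
    exact (QCoh.pushStalkHom_germ i y N O hyW (g.app (i ⁻¹ᵁ O) s)).trans
      (QCoh.stalkLin_germ g hyW s).symm
  · haveI : Subsingleton ((OX.stalk x).obj ((Scheme.Modules.pushforward i).obj N)) :=
      not_not.1 fun h => hx (QCoh.support_pushforward_subset_range i N h)
    exact ⟨0, Subsingleton.elim _ _⟩

theorem pushforward_exact :
    ∃ _ : (Scheme.Modules.pushforward i).Additive,
      PreservesFiniteLimits (Scheme.Modules.pushforward i) ∧
        PreservesFiniteColimits (Scheme.Modules.pushforward i) := by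
  let adj := Scheme.Modules.pullbackPushforwardAdjunction i
  haveI : (Scheme.Modules.pushforward i).Additive := inferInstance
  haveI : PreservesLimitsOfSize.{0, 0} (Scheme.Modules.pushforward i) :=
    adj.rightAdjoint_preservesLimits
  haveI : PreservesFiniteLimits (Scheme.Modules.pushforward i) :=
    PreservesLimitsOfSize.preservesFiniteLimits.{0, 0} _
  refine ⟨inferInstance, inferInstance, ?_⟩
  have h : ∀ S : ShortComplex Z.Modules, S.ShortExact →
      (S.map (Scheme.Modules.pushforward i)).ShortExact := fun S hS => by
    haveI := hS.mono_f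
    haveI := hS.epi_g
    haveI : Mono (S.map (Scheme.Modules.pushforward i)).f :=
      inferInstanceAs (Mono ((Scheme.Modules.pushforward i).map S.f))
    haveI : Epi (S.map (Scheme.Modules.pushforward i)).g := epi_push i S.g
    exact { exact := ShortComplex.exact_of_f_is_kernel _
              (isLimitForkMapOfIsLimit' (Scheme.Modules.pushforward i) S.zero hS.fIsKernel) }
  exact ((((Scheme.Modules.pushforward i).exact_tfae.out 0 3
    (a := ∀ S : ShortComplex Z.Modules, S.ShortExact → (S.map (Scheme.Modules.pushforward i)).ShortExact)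
    (b := PreservesFiniteLimits (Scheme.Modules.pushforward i) ∧
      PreservesFiniteColimits (Scheme.Modules.pushforward i))).1 h)).2

end GrothLib.K0Sub
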