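import Groth.Agent.Lib.K0Sub.Resolution
import Groth.Agent.Lib.K0Sub.Killed
import Groth.Agent.Lib.OX.SingleDegree
import Groth.Agent.Lib.OX.LocFreeTensor
import Groth.Agent.Lib.DCoh.LocFree
import Groth.Agent.Lib.Euler.Coh
import Groth.Prelude.Def_KRR
import Mathlib.Algebra.Homology.Augment

/-!
# Finite locally free resolutions and `K₀`
-/

universe v u

open CategoryTheory CategoryTheory.Limits AlgebraicGeometry HomologicalComplex

namespace GrothLib.K0Sub

section Res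

variable {C : Type u} [Category.{v} C] [Abelian C]

/-- Augmented complexes that are resolutions. -/
theorem quasiIso_iff_exact (L : ChainComplex C ℕ) (F : C) (π : L ⟶ (ChainComplex.single₀ C).obj F) :
    QuasiIso π ↔ (∀ i, L.ExactAt (i + 1)) ∧
      (ShortComplex.mk (L.d 1 0) (π.f 0)
        (by rw [← π.comm 1 0]; exact comp_zero)).Exact ∧ Epi (π.f 0) := by
  have h0 : QuasiIsoAt π 0 ↔ (ShortComplex.mk (L.d 1 0) (π.f 0)
        (by rw [← π.comm 1 0]; exact comp_zero)).Exact ∧ Epi (π.f 0) := by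
    rw [ChainComplex.quasiIsoAt₀_iff, ShortComplex.quasiIso_iff_of_zeros' _ (L.shape _ _ (by simp))
      rfl rfl]
    exact ShortComplex.exact_and_epi_g_iff_of_iso
      (ShortComplex.isoMk (Iso.refl _) (Iso.refl _) (Iso.refl _)
        ((Category.id_comp _).trans (Category.comp_id _).symm)
        ((Category.id_comp _).trans (Category.comp_id _).symm))
  have h1 : ∀ i, QuasiIsoAt π (i + 1) ↔ L.ExactAt (i + 1) := fun i => by
    rw [quasiIsoAt_iff_exactAt' π (i + 1) (ChainComplex.exactAt_succ_single_obj _ _)]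
  rw [quasiIso_iff]
  constructor
  · exact fun h => ⟨fun i => (h1 i).1 (h _), (h0.1 (h 0))⟩
  · rintro ⟨h, h'⟩ (_ | i)
    exacts [h0.2 h', (h1 i).2 (h i)]

end Res

variable {X : Scheme.{u}}

theorem isFinLocFree_ext (S : ShortComplex X.Modules) (hS : S.ShortExact)
    (h₁ : FlatMod.IsFinLocFree S.X₁) (h₃ : FlatMod.IsFinLocFree S.X₃) :
    FlatMod.IsFinLocFree S.X₂ := by
  haveI := hS.epi_g
  haveI := hS.mono_f
  refine OX.isFinLocFree_of_local fun x => ?_
  obtain ⟨U, j, hj, s, hx, hs⟩ := OX.exists_local_lift h₃ S.g (𝟙 _) x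
  let R := Scheme.Modules.restrictFunctor j
  refine ⟨U, j, hj, hx, ?_⟩
  haveI : Epi (S.map R).g := inferInstanceAs (Epi (R.map S.g))
  haveI : Mono (S.map R).f := inferInstanceAs (Mono (R.map S.f))
  let spl := ShortComplex.Splitting.ofExactOfSection (S.map R) (hS.exact.map R) s
    (hs.trans (R.map_id _)) inferInstance
  exact DCoh.isFinLocFree_of_iso spl.isoBinaryBiproduct.symm
    (DCoh.isFinLocFree_biprod (OX.isFinLocFree_restrict j h₁) (OX.isFinLocFree_restrict j h₃))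

theorem isFinLocFree_ker (S : ShortComplex X.Modules) (hS : S.ShortExact)
    (h₂ : FlatMod.IsFinLocFree S.X₂) (h₃ : FlatMod.IsFinLocFree S.X₃) :
    FlatMod.IsFinLocFree S.X₁ := by
  haveI := hS.epi_g
  haveI := hS.mono_f
  exact DCoh.isFinLocFree_of_iso
    (IsLimit.conePointUniqueUpToIso (limit.isLimit _) hS.fIsKernel)
    (OX.isFinLocFree_kernel S.g h₂ h₃)

theorem isCoh_ker [IsLocallyNoetherian X] (S : ShortComplex X.Modules) (hS : S.ShortExact)
    (h₂ : Coh.IsCoh S.X₂) (h₃ : Coh.IsCoh S.X₃) : Coh.IsCoh S.X₁ := by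
  haveI := hS.mono_f
  exact QCoh.isCoh_of_iso
    (IsLimit.conePointUniqueUpToIso (limit.isLimit _) hS.fIsKernel)
    (QCoh.isCoh_kernel S.g h₂ h₃)

theorem resHyp_vb [IsLocallyNoetherian X] (hX : KRR.HasEnoughLocFree X) :
    ResHyp (KRR.vbP X) (cohP X) where
  le _ h := Euler.isCoh_of_isFinLocFree h
  iso₀ := ⟨fun e h => DCoh.isFinLocFree_of_iso e h⟩
  iso₁ := ⟨fun e h => QCoh.isCoh_of_iso e h⟩
  ext₀ := isFinLocFree_ext
  ext₁ := isCoh_ext
  ker₀ := isFinLocFree_ker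
  ker₁ := isCoh_ker
  lift A B D u v hu hA hB hD := by
    obtain ⟨L, p, hL, hp⟩ := hX (pullback u v) (QCoh.isCoh_of_iso
      ((Abelian.PullbackToBiproductIsKernel.isLimitPullbackToBiproduct u v).conePointUniqueUpToIso
        (kernelIsKernel (biprod.desc u (-v)))).symm
      (QCoh.isCoh_kernel (biprod.desc u (-v)) (QCoh.isCoh_biprod' hA hD) hB))
    haveI := hp
    refine ⟨L, p ≫ pullback.snd u v, p ≫ pullback.fst u v, hL, epi_comp _ _, ?_⟩
    rw [Category.assoc, Category.assoc, pullback.condition]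

/-- A module with a finite locally free resolution is resolved inside such modules. -/
theorem exists_R_of_isLFRes [IsLocallyNoetherian X] : ∀ (n : ℕ) (F : X.Modules) (L : ChainComplex X.Modules ℕ)
    (π : L ⟶ (ChainComplex.single₀ X.Modules).obj F), Coh.IsCoh F → KRR.IsLFRes F n L π →
    ∃ c, R (KRR.vbP X) (fun M : X.Modules => Coh.IsCoh M ∧ KRR.HasLFRes M) n F c
  | 0, F, L, π, hF, h => by
    obtain ⟨-, hex, hepi⟩ := (quasiIso_iff_exact L F π).1 h.quasiIso
    haveI := hepi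
    haveI : Mono (π.f 0) := hex.mono_g ((h.isZero 1 Nat.one_pos).eq_of_src _ _)
    have e : IsIso (π.f 0) := isIso_of_mono_of_epi (π.f 0)
    exact ⟨_, DCoh.isFinLocFree_of_iso (@asIso _ _ _ _ (π.f 0) e) (h.finLocFree 0), rfl⟩
  | n + 1, F, L, π, hF, h => by
    obtain ⟨hL, hex, hepi⟩ := (quasiIso_iff_exact L F π).1 h.quasiIso
    haveI := hepi
    have w : L.d 1 0 ≫ π.f 0 = 0 := by rw [← π.comm 1 0]; exact comp_zero
    let L' := ChainComplex.truncate.obj L
    let p : L.X 1 ⟶ kernel (π.f 0) := kernel.lift _ (L.d 1 0) w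
    have hp : L'.d 1 0 ≫ p = 0 := by
      refine (cancel_mono (kernel.ι (π.f 0))).1 ((Category.assoc _ _ _).trans ?_)
      exact ((congrArg (L.d 2 1 ≫ ·) (kernel.lift_ι _ _ _)).trans (L.d_comp_d 2 1 0)).trans zero_comp.symm
    let π' : L' ⟶ (ChainComplex.single₀ X.Modules).obj (kernel (π.f 0)) :=
      (ChainComplex.toSingle₀Equiv L' _).symm ⟨p, hp⟩
    have hπ' : π'.f 0 = p := ChainComplex.toSingle₀Equiv_symm_apply_f_zero (C := L') p hp
    have hq : KRR.IsLFRes (kernel (π.f 0)) n L' π' := by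
      refine ⟨fun i => h.finLocFree _, fun i hi => h.isZero _ (Nat.succ_lt_succ hi),
        (quasiIso_iff_exact _ _ _).2 ⟨fun i => ?_, ?_, ?_⟩⟩
      · have := hL (i + 1)
        rw [exactAt_iff' _ (i + 1 + 1 + 1) (i + 1 + 1) (i + 1) (by simp) (by simp)] at this
        rw [exactAt_iff' _ (i + 1 + 1) (i + 1) i (by simp) (by simp)]
        exact this
      · simp only [hπ']
        have hsc := hL 0
        rw [exactAt_iff' _ (0 + 1 + 1) (0 + 1) 0 (by simp) (by simp)] at hsc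
        let φ : ShortComplex.mk (L'.d 1 0) p hp ⟶ L.sc' 2 1 0 :=
          { τ₁ := 𝟙 _, τ₂ := 𝟙 _, τ₃ := kernel.ι _
            comm₁₂ := (Category.id_comp _).trans (Category.comp_id _).symm
            comm₂₃ := (Category.id_comp _).trans (kernel.lift_ι _ _ _).symm }
        haveI : Epi φ.τ₁ := inferInstanceAs (Epi (𝟙 _))
        haveI : IsIso φ.τ₂ := inferInstanceAs (IsIso (𝟙 _))
        haveI : Mono φ.τ₃ := inferInstanceAs (Mono (kernel.ι _))
        exact (ShortComplex.exact_iff_of_epi_of_isIso_of_mono φ).2 hsc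
      · rw [hπ']
        exact (ShortComplex.exact_iff_epi_kernel_lift _).1 hex
    have hK : Coh.IsCoh (kernel (π.f 0)) :=
      QCoh.isCoh_kernel _ (Euler.isCoh_of_isFinLocFree (h.finLocFree 0)) hF
    obtain ⟨c, hc⟩ := exists_R_of_isLFRes n _ L' π' hK hq
    exact ⟨_, ⟨hF, n + 1, L, π, h⟩, _, c, shortExact_kernel (π.f 0), rfl, h.finLocFree 0, hc, rfl⟩

theorem R_mono₁ {C : Type u} [Category.{v} C] [Abelian C] {P₀ P₁ P₁' : ObjectProperty C}
    (hle : ∀ A, P₁ A → P₁' A) : ∀ {n : ℕ} {A : C} {c}, R P₀ P₁ n A c → R P₀ P₁' n A c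
  | 0, _, _, h => h
  | _ + 1, _, _, h => by
    obtain ⟨h₁, S, c', hS, e, hL, hK, hc⟩ := h
    exact ⟨hle _ h₁, S, c', hS, e, hL, R_mono₁ hle hK, hc⟩

/-- The resolution theorem, relative to an ambient class. -/
theorem bijective_mapSub_of_le {C : Type u} [Category.{v} C] [Abelian C] {P₀ P₁ P : ObjectProperty C}
    (h : ResHyp P₀ P₁) (hle : ∀ A, P₀ A → P A) (hP : ∀ A, P A → P₁ A)
    (hex : ∀ A, P A → ∃ n c, R P₀ P n A c) :
    Function.Bijective (SGA6.mapSub (𝟭 C) P₀ P hle) := by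
  classical
  let φ : C → KZero.K0sub P₀ := fun A => if hA : P A then (hex A hA).choose_spec.choose else 0
  have hφ : ∀ A, P A → ∃ n, R P₀ P n A (φ A) := fun A hA => by
    simp only [φ, dif_pos hA]
    exact ⟨_, (hex A hA).choose_spec.choose_spec⟩
  have huniq : ∀ A n c, P A → R P₀ P₁ n A c → φ A = c := fun A n c hA hc => by
    obtain ⟨m, hm⟩ := hφ A hA
    exact R.unique h (R.mono h (le_max_left m n) (R_mono₁ hP hm)) (R.mono h (le_max_right m n) hc)
  obtain ⟨ψ, hψ⟩ := exists_lift (P := P) φ fun S hS h₁ h₂ h₃ => by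
    obtain ⟨m, hm⟩ := hφ _ h₁
    obtain ⟨n, hn⟩ := hφ _ h₃
    obtain ⟨k, hk⟩ := R.add h S hS (R_mono₁ hP hm) (R_mono₁ hP hn)
    exact huniq _ _ _ h₂ hk
  have hl : ψ.comp (SGA6.mapSub (𝟭 C) P₀ P hle) = AddMonoidHom.id _ :=
    hom_ext fun X hX => by
      rw [AddMonoidHom.comp_apply, mapSub_clSub _ _ _ hX]
      exact (hψ _ (hle _ hX)).trans (huniq X 0 _ (hle _ hX) ⟨hX, rfl⟩)
  have hcls : ∀ n A c, R P₀ P n A c → P A ∧
      SGA6.mapSub (𝟭 C) P₀ P hle c = KZero.clSub P A := by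
    intro n
    induction n with
    | zero =>
      rintro A _ ⟨hA, rfl⟩
      exact ⟨hle _ hA, mapSub_clSub _ _ _ hA⟩
    | succ n ih =>
      rintro A _ ⟨hA, S, c', hS, rfl, hL, hK, rfl⟩
      obtain ⟨hPK, e⟩ := ih _ _ hK
      refine ⟨hA, ?_⟩
      rw [map_sub, mapSub_clSub _ _ _ hL, e]
      refine sub_eq_of_eq_add ?_
      rw [add_comm]
      exact clSub_add hS hPK (hle _ hL) hA
  have hr : (SGA6.mapSub (𝟭 C) P₀ P hle).comp ψ = AddMonoidHom.id _ :=
    hom_ext fun X hX => by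
      obtain ⟨n, hn⟩ := hφ X hX
      rw [AddMonoidHom.comp_apply, hψ X hX]
      exact (hcls n X _ hn).2
  exact ⟨Function.LeftInverse.injective (DFunLike.congr_fun hl),
    Function.RightInverse.surjective (DFunLike.congr_fun hr)⟩

end GrothLib.K0Sub
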