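import Groth.Agent.Lib.K0Sub.PushExact
import Groth.Agent.Lib.QCoh.LocGenCases
import Groth.Agent.Lib.Cohom.RpushModules

/-!
# The localization sequence for `K₀` of coherent modules
-/

universe u

open CategoryTheory CategoryTheory.Limits AlgebraicGeometry TopologicalSpace Opposite

namespace GrothLib.K0Sub

variable {X U : Scheme.{u}} (j : U ⟶ X) [IsOpenImmersion j]

/-- Restriction. -/
noncomputable abbrev res : X.Modules ⥤ U.Modules := Scheme.Modules.restrictFunctor j

theorem isIso_counit (G : U.Modules) :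
    IsIso ((Scheme.Modules.restrictAdjunction j).counit.app G) :=
  inferInstanceAs (IsIso ((Scheme.Modules.restrictFunctorAdjCounitIso j).hom.app G))

/-- The adjunct of an identification on the open. -/
noncomputable abbrev adjunct {F : X.Modules} {G : U.Modules} (φ : (res j).obj F ⟶ G) :
    F ⟶ (Scheme.Modules.pushforward j).obj G :=
  (Scheme.Modules.restrictAdjunction j).homEquiv F G φ

theorem map_adjunct {F : X.Modules} {G : U.Modules} (φ : (res j).obj F ⟶ G) :
    (res j).map (adjunct j φ) ≫ (Scheme.Modules.restrictAdjunction j).counit.app G = φ := by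
  exact ((Scheme.Modules.restrictAdjunction j).homEquiv_counit F G (adjunct j φ)).symm.trans
    (Equiv.symm_apply_apply _ _)

theorem isIso_map_adjunct {F : X.Modules} {G : U.Modules} (φ : (res j).obj F ⟶ G) [IsIso φ] :
    IsIso ((res j).map (adjunct j φ)) := by
  haveI := isIso_counit j G
  haveI : IsIso ((res j).map (adjunct j φ) ≫
      (Scheme.Modules.restrictAdjunction j).counit.app G) := by rw [map_adjunct]; infer_instance
  exact IsIso.of_isIso_comp_right _ ((Scheme.Modules.restrictAdjunction j).counit.app G)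

variable [IsNoetherian X]

theorem isQuasicoherent_push_open (G : U.Modules) [G.IsQuasicoherent] :
    ((Scheme.Modules.pushforward j).obj G).IsQuasicoherent :=
  QCoh.isQuasicoherent_pushforward j G

theorem exists_extension (G : U.Modules) (hG : Coh.IsCoh G) :
    ∃ F : X.Modules, Coh.IsCoh F ∧ Nonempty ((res j).obj F ≅ G) := by
  let V := j.opensRange
  let e := j.isoOpensRange
  let G₀ : (V : Scheme.{u}).Modules := (Scheme.Modules.restrictFunctor e.inv).obj G
  have hG₀ : Coh.IsCoh G₀ := Cohom.isCoh_restrict G hG e.inv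
  haveI := hG₀.1
  haveI : ((Scheme.Modules.pushforward V.ι).obj G₀).IsQuasicoherent :=
    isQuasicoherent_push_open V.ι G₀
  let c := ((Scheme.Modules.restrictFunctorAdjCounitIso V.ι).app G₀).symm
  haveI : ((𝟭 (V : Scheme.{u}).Modules).obj G₀).IsQuasicoherent :=
    inferInstanceAs G₀.IsQuasicoherent
  obtain ⟨F, -, e', -, h1, h2, -⟩ := QCoh.exists_finiteType_extension_qcqs
    (F := (Scheme.Modules.pushforward V.ι).obj G₀) (NoetherianSpace.isCompact _) c.hom hG₀.2
  refine ⟨F, ⟨h1, h2⟩, ⟨(Scheme.Modules.restrictFunctorCongr j.isoOpensRange_hom_ι.symm).app F ≪≫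
    (Scheme.Modules.restrictFunctorComp e.hom V.ι).app F ≪≫
    (Scheme.Modules.restrictFunctor e.hom).mapIso e' ≪≫ ?_⟩⟩
  exact (Scheme.Modules.restrictFunctorComp e.hom e.inv).symm.app G ≪≫
    (Scheme.Modules.restrictFunctorCongr e.hom_inv_id).app G ≪≫
    Scheme.Modules.restrictFunctorId.app G

variable {Z : Scheme.{u}} (i : Z ⟶ X) [IsClosedImmersion i] (hU : Set.range j = (Set.range i)ᶜ)

include hU in
omit [IsClosedImmersion i] in
theorem suppP_of_res_isZero {M : X.Modules} (hM : Coh.IsCoh M) (h : IsZero ((res j).obj M)) :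
    suppP i M := by
  refine (suppP_iff i).2 ⟨hM, fun x hx => ?_⟩
  by_contra hxi
  refine QCoh.notMem_support_of_forall_subsingleton M (W := j.opensRange) (fun V hV => ?_)
    (show x ∈ Set.range j from hU.symm ▸ hxi) hx
  have e : j ''ᵁ (j ⁻¹ᵁ V) = V := by
    rw [Scheme.Hom.image_preimage_eq_opensRange_inf]
    exact inf_eq_right.2 hV
  rw [← e]
  refine subsingleton_of_forall_eq 0 fun m => ?_
  exact congrArg (fun g : (res j).obj M ⟶ (res j).obj M => g.app (j ⁻¹ᵁ V) m) (h.eq_of_src (𝟙 _) 0)

include hU in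
theorem isZero_res_push (N : Z.Modules) : IsZero ((res j).obj ((Coh.push i).obj N)) := by
  refine (IsZero.iff_id_eq_zero _).2 (Scheme.Modules.hom_ext _ _ fun V => ?_)
  have e : i ⁻¹ᵁ (j ''ᵁ V) = ⊥ := le_antisymm (fun z hz => by
    obtain ⟨y, -, hy⟩ := hz
    exact ((hU ▸ (⟨y, hy⟩ : i z ∈ Set.range j) : i z ∈ (Set.range i)ᶜ) ⟨z, rfl⟩).elim) bot_le
  haveI : Subsingleton Γ(N, i ⁻¹ᵁ (j ''ᵁ V)) := by
    rw [e]; exact Cohom.subsingleton_sections_bot (Coh.toAb N)
  exact AddCommGrpCat.ext fun m => Subsingleton.elim (α := Γ(N, i ⁻¹ᵁ (j ''ᵁ V))) _ _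

variable [(Scheme.Modules.pushforward i).Additive] [PreservesFiniteLimits (Scheme.Modules.pushforward i)]
  [PreservesFiniteColimits (Scheme.Modules.pushforward i)]

/-- The map from the closed subscheme. -/
noncomputable abbrev pushK : KZero.K0sub (cohP Z) →+ KZero.K0sub (cohP X) :=
  SGA6.mapSub (Scheme.Modules.pushforward i) (cohP Z) (cohP X) fun _ h => isCoh_push i h

/-- Classes of supported modules come from the closed subscheme. -/
theorem clSub_mem_range {M : X.Modules} (hM : suppP i M) :
    KZero.clSub (cohP X) M ∈ (pushK i).range := by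
  obtain ⟨a, ha⟩ := (bijective_mapSub_killed_supp i).2 (KZero.clSub (suppP i) M)
  obtain ⟨b, hb⟩ := (bijective_mapSub_push i fun N hN => isCoh_push i hN).2 a
  refine ⟨b, ?_⟩
  let incl := SGA6.mapSub (𝟭 X.Modules) (suppP i) (cohP X) fun _ h => h.1
  have e : pushK i = incl.comp ((SGA6.mapSub (𝟭 X.Modules) (killedP i) (suppP i) fun _ h =>
      killedP.supp i h).comp (SGA6.mapSub (Scheme.Modules.pushforward i) (cohP Z) (killedP i)
        fun N hN => ⟨isCoh_push i hN, killedByIdeal_push i N⟩)) := hom_ext fun N hN => by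
    have hk : killedP i ((Scheme.Modules.pushforward i).obj N) :=
      ⟨isCoh_push i hN, killedByIdeal_push i N⟩
    rw [AddMonoidHom.comp_apply, AddMonoidHom.comp_apply, mapSub_clSub _ _ _ hN,
      mapSub_clSub _ _ _ hN, mapSub_clSub _ _ _ hk]
    exact (mapSub_clSub (𝟭 X.Modules) (cohP X) (fun _ h => h.1) (killedP.supp i hk)).symm
  rw [e, AddMonoidHom.comp_apply, AddMonoidHom.comp_apply, hb, ha]
  exact mapSub_clSub (𝟭 X.Modules) (cohP X) (fun _ h => h.1) hM

theorem clSub_sub_mem_of_isIso_res {A B : X.Modules} (f : A ⟶ B) (hA : Coh.IsCoh A)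
    (hB : Coh.IsCoh B) [PreservesFiniteLimits (res j)] [IsIso ((res j).map f)]
    (hU : Set.range j = (Set.range i)ᶜ) :
    KZero.clSub (cohP X) A - KZero.clSub (cohP X) B ∈ (pushK i).range := by
  have hK := QCoh.isCoh_kernel f hA hB
  have hC := QCoh.isCoh_cokernel f hA hB
  have hI : Coh.IsCoh (Abelian.image f) := QCoh.isCoh_kernel _ hB hC
  obtain ⟨w, hS⟩ := QCoh.shortExact_kernel_image f
  have e1 := clSub_add (P := cohP X) hS hK hA hI
  have e2 := clSub_add (P := cohP X) (QCoh.shortExact_image_cokernel f) hI hB hC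
  have h1 : IsZero ((res j).obj (kernel f)) :=
    (isZero_kernel_of_mono ((res j).map f)).of_iso (PreservesKernel.iso (res j) f)
  have h2 : IsZero ((res j).obj (cokernel f)) :=
    (isZero_cokernel_of_epi ((res j).map f)).of_iso (PreservesCokernel.iso (res j) f)
  have m1 := clSub_mem_range i (suppP_of_res_isZero j i hU hK h1)
  have m2 := clSub_mem_range i (suppP_of_res_isZero j i hU hC h2)
  dsimp only at e1 e2
  rw [e1, e2, show ∀ a b c : KZero.K0sub (cohP X), (a + b) - (b + c) = a - c from fun _ _ _ => by abel]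
  exact AddSubgroup.sub_mem _ m1 m2

include hU in
theorem clSub_sub_mem_of_iso {A B : X.Modules} (hA : Coh.IsCoh A) (hB : Coh.IsCoh B)
    [PreservesFiniteLimits (res j)] {G : U.Modules} [G.IsQuasicoherent]
    (a : (res j).obj A ≅ G) (b : (res j).obj B ≅ G) :
    KZero.clSub (cohP X) A - KZero.clSub (cohP X) B ∈ (pushK i).range := by
  haveI := hA.1
  haveI := hB.1
  haveI := isQuasicoherent_push_open j G
  haveI := (QCoh.isCoh_biprod' hA hB).1
  haveI : (kernel (biprod.desc (adjunct j a.hom) (-(adjunct j b.hom)))).IsQuasicoherent :=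
    QCoh.isQuasicoherent_kernel _
  let P := pullback (adjunct j a.hom) (adjunct j b.hom)
  let eP : kernel (biprod.desc (adjunct j a.hom) (-(adjunct j b.hom))) ≅ P :=
    ((Abelian.PullbackToBiproductIsKernel.isLimitPullbackToBiproduct (adjunct j a.hom)
      (adjunct j b.hom)).conePointUniqueUpToIso (kernelIsKernel _)).symm
  have hP : Coh.IsCoh P := QCoh.isCoh_of_iso eP ⟨inferInstance,
    QCoh.isFiniteType_of_mono (kernel.ι _) (QCoh.isCoh_biprod' hA hB).2⟩
  haveI := isIso_map_adjunct j a.hom
  haveI := isIso_map_adjunct j b.hom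
  have H := (IsPullback.of_hasPullback (adjunct j a.hom) (adjunct j b.hom)).map (res j)
  haveI : IsIso ((res j).map (pullback.fst (adjunct j a.hom) (adjunct j b.hom))) :=
    H.isIso_fst_of_isIso
  haveI : IsIso ((res j).map (pullback.snd (adjunct j a.hom) (adjunct j b.hom))) :=
    H.isIso_snd_of_isIso
  have m1 := clSub_sub_mem_of_isIso_res j i (pullback.fst (adjunct j a.hom) (adjunct j b.hom)) hP hA hU
  have m2 := clSub_sub_mem_of_isIso_res j i (pullback.snd (adjunct j a.hom) (adjunct j b.hom)) hP hB hU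
  have := AddSubgroup.sub_mem _ m2 m1
  rwa [sub_sub_sub_cancel_left] at this

include hU in
/-- Restriction has the expected kernel. -/
theorem ker_le_range [(res j).Additive] [PreservesFiniteLimits (res j)]
    [PreservesFiniteColimits (res j)]
    (hj : ∀ M : X.Modules, Coh.IsCoh M → Coh.IsCoh ((res j).obj M)) :
    (SGA6.mapSub (res j) (cohP X) (cohP U) hj).ker ≤ (pushK i).range := by
  classical
  let Q := KZero.K0sub (cohP X) ⧸ (pushK i).range
  let φ : U.Modules → Q := fun G =>
    if hG : Coh.IsCoh G then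
      QuotientAddGroup.mk (KZero.clSub (cohP X) (exists_extension j G hG).choose) else 0
  have hφ : ∀ (G : U.Modules), Coh.IsCoh G → ∀ (F : X.Modules), Coh.IsCoh F →
      ((res j).obj F ≅ G) → φ G = QuotientAddGroup.mk (KZero.clSub (cohP X) F) := by
    intro G hG F hF e
    obtain ⟨h0, ⟨e0⟩⟩ := (exists_extension j G hG).choose_spec
    haveI := hG.1
    simp only [φ, dif_pos hG]
    rw [QuotientAddGroup.eq]
    have := clSub_sub_mem_of_iso j i hU hF h0 e e0
    rwa [neg_add_eq_sub]
  obtain ⟨ψ, hψ⟩ := exists_lift (P := cohP U) φ fun S hS h₁ h₂ h₃ => by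
    obtain ⟨F, hF, ⟨a⟩⟩ := exists_extension j S.X₂ h₂
    haveI := h₃.1
    haveI := hF.1
    haveI := isQuasicoherent_push_open j S.X₃
    haveI := hS.epi_g
    haveI := isIso_counit j S.X₃
    let q := adjunct j (a.hom ≫ S.g)
    haveI : (kernel q).IsQuasicoherent := QCoh.isQuasicoherent_kernel q
    have hK : Coh.IsCoh (kernel q) :=
      ⟨inferInstance, QCoh.isFiniteType_of_mono (kernel.ι q) hF.2⟩
    have hC : Coh.IsCoh (cokernel (kernel.ι q)) := QCoh.isCoh_cokernel _ hK hF
    have hT : (ShortComplex.mk (kernel.ι q) (cokernel.π (kernel.ι q))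
        (cokernel.condition _)).ShortExact :=
      ShortComplex.ShortExact.mk' (ShortComplex.exact_cokernel _) inferInstance inferInstance
    have hq : (res j).map q ≫ (Scheme.Modules.restrictAdjunction j).counit.app S.X₃ = a.hom ≫ S.g :=
      map_adjunct j _
    let e₁ : (res j).obj (kernel q) ≅ S.X₁ :=
      PreservesKernel.iso (res j) q ≪≫ kernel.mapIso ((res j).map q) S.g a
        (@asIso _ _ _ _ _ (isIso_counit j S.X₃)) hq ≪≫
        (IsLimit.conePointUniqueUpToIso hS.fIsKernel (limit.isLimit _)).symm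
    let m : cokernel (kernel.ι q) ⟶ (Scheme.Modules.pushforward j).obj S.X₃ :=
      cokernel.desc _ q (kernel.condition q)
    haveI : Mono m := inferInstanceAs (Mono (Abelian.factorThruCoimage q))
    haveI : Epi ((res j).map m ≫ (Scheme.Modules.restrictAdjunction j).counit.app S.X₃) := by
      have h0 : (res j).map (cokernel.π (kernel.ι q)) ≫ (res j).map m ≫
          (Scheme.Modules.restrictAdjunction j).counit.app S.X₃ = a.hom ≫ S.g := by
        rw [← Category.assoc, ← Functor.map_comp, cokernel.π_desc, hq]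
      haveI : Epi ((res j).map (cokernel.π (kernel.ι q)) ≫ (res j).map m ≫
          (Scheme.Modules.restrictAdjunction j).counit.app S.X₃) := h0 ▸ inferInstance
      exact epi_of_epi ((res j).map (cokernel.π (kernel.ι q))) _
    haveI : IsIso ((res j).map m ≫ (Scheme.Modules.restrictAdjunction j).counit.app S.X₃) :=
      isIso_of_mono_of_epi _
    let e₃ := asIso ((res j).map m ≫ (Scheme.Modules.restrictAdjunction j).counit.app S.X₃)
    rw [hφ _ h₁ _ hK e₁, hφ _ h₂ _ hF a, hφ _ h₃ _ hC e₃, ← QuotientAddGroup.mk_add]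
    exact congrArg _ (clSub_add (P := cohP X) hT hK hF hC)
  have hcomp : ψ.comp (SGA6.mapSub (res j) (cohP X) (cohP U) hj) =
      QuotientAddGroup.mk' (pushK i).range := hom_ext fun F hF => by
    rw [AddMonoidHom.comp_apply, mapSub_clSub _ _ _ hF, hψ _ (hj F hF)]
    exact hφ _ (hj F hF) F hF (Iso.refl _)
  intro x hx
  rw [AddMonoidHom.mem_ker] at hx
  have := DFunLike.congr_fun hcomp x
  rw [AddMonoidHom.comp_apply, hx, map_zero] at this
  exact (QuotientAddGroup.eq_zero_iff x).1 this.symm

/-- Restriction is surjective. -/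
theorem surjective_res [(res j).Additive] [PreservesFiniteLimits (res j)]
    [PreservesFiniteColimits (res j)]
    (hj : ∀ M : X.Modules, Coh.IsCoh M → Coh.IsCoh ((res j).obj M)) :
    Function.Surjective (SGA6.mapSub (res j) (cohP X) (cohP U) hj) := by
  haveI : IsLocallyNoetherian U := isLocallyNoetherian_of_isOpenImmersion j
  rw [← AddMonoidHom.range_eq_top, eq_top_iff]
  have hsub : ∀ G : U.Modules, Coh.IsCoh G →
      KZero.clSub (cohP U) G ∈ (SGA6.mapSub (res j) (cohP X) (cohP U) hj).range := fun G hG => by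
    obtain ⟨F, hF, ⟨e⟩⟩ := exists_extension j G hG
    exact ⟨KZero.clSub (cohP X) F, (mapSub_clSub _ _ _ hF).trans (clSub_coh_iso e)⟩
  have hid : (QuotientAddGroup.mk' (SGA6.mapSub (res j) (cohP X) (cohP U) hj).range) = 0 :=
    hom_ext fun G hG => (QuotientAddGroup.eq_zero_iff _).2 (hsub G hG)
  exact fun x _ => (QuotientAddGroup.eq_zero_iff x).1 (DFunLike.congr_fun hid x)

end GrothLib.K0Sub
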