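import Groth.Agent.Lib.K0Sub.Basic
import Mathlib.CategoryTheory.Abelian.Exact
import Mathlib.CategoryTheory.Abelian.GrothendieckAxioms.Basic
import Mathlib.CategoryTheory.Limits.Shapes.Pullback.IsPullback.Basic

/-!
# Infinite filtrations in `K₀`

If the coproducts involved exist in `P`, the class of an object is the class of the coproduct of the
graded pieces of an infinite filtration.
-/

universe w v u

open CategoryTheory CategoryTheory.Limits

namespace GrothLib.K0Sub

variable {C : Type u} [Category.{v} C] [Abelian C] [HasCoproducts.{w} C] {P : ObjectProperty C}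

/-- Coproducts of monomorphisms are monomorphisms. -/
class SigmaMono (C : Type u) [Category.{v} C] [HasCoproducts.{w} C] : Prop where
  mono : ∀ {J : Type w} {F G : J → C} (f : ∀ j, F j ⟶ G j) [∀ j, Mono (f j)],
    Mono (Limits.Sigma.map f)

theorem sigmaMono_of_ab4 [AB4OfSize.{w} C] : SigmaMono.{w} C where
  mono {J F G} f _ := by
    haveI : HasExactColimitsOfShape (Discrete J) C := AB4OfSize.ofShape _
    haveI : ∀ a, Mono ((Discrete.natTrans (F := Discrete.functor F) (G := Discrete.functor G)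
        fun i => f i.as).app a) := fun a => inferInstanceAs (Mono (f a.as))
    haveI := NatTrans.mono_of_mono_app (Discrete.natTrans (F := Discrete.functor F)
      (G := Discrete.functor G) fun i => f i.as)
    exact inferInstanceAs (Mono (colim.map _))

/-- The cokernel of a coproduct of maps. -/
theorem shortExact_sigma_coker [SigmaMono.{w} C] {J : Type w} {F G : J → C} (f : ∀ j, F j ⟶ G j)
    [∀ j, Mono (f j)] :
    ∃ w' : Limits.Sigma.map f ≫ Limits.Sigma.map (fun j => cokernel.π (f j)) = 0,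
      (ShortComplex.mk (Limits.Sigma.map f) (Limits.Sigma.map fun j => cokernel.π (f j))
        w').ShortExact := by
  have w' : Limits.Sigma.map f ≫ Limits.Sigma.map (fun j => cokernel.π (f j)) = 0 := by
    ext j; simp
  refine ⟨w', ?_⟩
  haveI : Mono (Limits.Sigma.map f) := SigmaMono.mono f
  refine { exact := ShortComplex.exact_of_g_is_cokernel _ ?_, epi_g := ?_ }
  · refine CokernelCofork.IsColimit.ofπ _ _
      (fun g hg => Sigma.desc fun j => cokernel.desc (f j) (Sigma.ι G j ≫ g) ?_)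
      (fun g hg => ?_) (fun g hg m hm => ?_)
    · have := congrArg (Sigma.ι F j ≫ ·) hg
      simpa using this
    · ext j; simp
    · dsimp at hm
      ext j
      simpa using (congrArg (Sigma.ι G j ≫ ·) hm)
  · refine Preadditive.epi_of_cancel_zero _ fun g hg => ?_
    dsimp at g hg ⊢
    ext j
    simpa using congrArg (Sigma.ι G j ≫ ·) hg

/-- Classes only depend on isomorphism classes, when `P` contains a zero object. -/
theorem clSub_iso' (h0 : ∀ Z : C, IsZero Z → P Z) {A B : C} (e : A ≅ B) (hA : P A) (hB : P B) :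
    KZero.clSub P A = KZero.clSub P B := by
  have := clSub_add (shortExact_kernel e.hom) (h0 _ (isZero_kernel_of_mono e.hom)) hA hB
  rwa [clSub_isZero (isZero_kernel_of_mono e.hom), zero_add] at this

/-- An infinite filtration has the class of the coproduct of its graded pieces. -/
theorem clSub_eq_gr [SigmaMono.{w} C] (M : ℕ → C) (m : ∀ j, M (j + 1) ⟶ M j) [∀ j, Mono (m j)]
    (hM : P (M 0)) (hC : P (∐ fun j : ULift.{w} ℕ => M (j.down + 1)))
    (hX : P (∐ fun j : ULift.{w} ℕ => M j.down))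
    (hG : P (∐ fun j : ULift.{w} ℕ => cokernel (m j.down))) :
    KZero.clSub P (M 0) = KZero.clSub P (∐ fun j : ULift.{w} ℕ => cokernel (m j.down)) := by
  let C' := ∐ fun j : ULift.{w} ℕ => M (j.down + 1)
  let X' := ∐ fun j : ULift.{w} ℕ => M j.down
  let s : C' ⟶ X' :=
    Sigma.desc fun j => Sigma.ι (fun j : ULift.{w} ℕ => M j.down) ⟨j.down + 1⟩
  let p : X' ⟶ M 0 := Sigma.desc fun j => match j with
    | ⟨0⟩ => 𝟙 _
    | ⟨_ + 1⟩ => 0
  let r : X' ⟶ C' := Sigma.desc fun j => match j with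
    | ⟨0⟩ => 0
    | ⟨n + 1⟩ => Sigma.ι (fun j : ULift.{w} ℕ => M (j.down + 1)) ⟨n⟩
  have hsp : s ≫ p = 0 := by ext j; simp [s, p, X']
  let spl : (ShortComplex.mk s p hsp).Splitting :=
    { r := r
      s := Sigma.ι (fun j : ULift.{w} ℕ => M j.down) ⟨0⟩
      f_r := by ext ⟨j⟩; simp [s, r, C', X']
      s_g := by simp [p, X']
      id := by ext ⟨j⟩; cases j <;> simp [s, r, p, C', X'] }
  obtain ⟨w', h⟩ := shortExact_sigma_coker fun j : ULift.{w} ℕ => m j.down
  exact add_left_cancel ((clSub_add spl.shortExact hC hX hM).symm.trans (clSub_add h hC hX hG))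

/-- The cokernels of a monomorphism of short exact sequences. -/
theorem shortExact_cokernels {S T : ShortComplex C} (φ : S ⟶ T) (hS : S.ShortExact)
    (hT : T.ShortExact) [Mono φ.τ₃] :
    ∃ (a : cokernel φ.τ₁ ⟶ cokernel φ.τ₂) (b : cokernel φ.τ₂ ⟶ cokernel φ.τ₃) (w : a ≫ b = 0),
      (ShortComplex.mk a b w).ShortExact := by
  haveI := hS.epi_g
  haveI := hT.mono_f
  haveI := hT.epi_g
  let a := cokernel.map φ.τ₁ φ.τ₂ S.f T.f φ.comm₁₂
  let b := cokernel.map φ.τ₂ φ.τ₃ S.g T.g φ.comm₂₃
  have w : a ≫ b = 0 := by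
    rw [← cancel_epi (cokernel.π φ.τ₁)]
    simp [a, b]
  refine ⟨a, b, w, { exact := ?_, mono_f := ?_, epi_g := ?_ }⟩
  · refine ShortComplex.exact_of_g_is_cokernel _ (CokernelCofork.IsColimit.ofπ _ _
      (fun g hg => cokernel.desc _ (hT.exact.desc (cokernel.π φ.τ₂ ≫ g) ?_) ?_)
      (fun g hg => ?_) (fun g hg m hm => ?_))
    · have := congrArg (cokernel.π φ.τ₁ ≫ ·) hg
      simpa [a] using this
    · rw [← cancel_epi S.g, ← reassoc_of% φ.comm₂₃, hT.exact.g_desc]
      simp
    · rw [← cancel_epi (cokernel.π φ.τ₂)]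
      simp [b]
    · rw [← cancel_epi (cokernel.π φ.τ₃), ← cancel_epi T.g]
      simp [b, ← hm]
  · refine Preadditive.mono_of_cancel_zero _ fun {A} x hx => ?_
    obtain ⟨A', π, hπ, y, hy⟩ := surjective_up_to_refinements_of_epi (cokernel.π φ.τ₁) x
    have h1 : (y ≫ T.f) ≫ cokernel.π φ.τ₂ = 0 := by
      have h2 : π ≫ x ≫ a = 0 := by rw [show x ≫ a = 0 from hx, comp_zero]
      rw [reassoc_of% hy] at h2
      simpa [a] using h2
    obtain ⟨A'', π', hπ', z, hz⟩ := (ShortComplex.exact_cokernel φ.τ₂).exact_up_to_refinements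
      (y ≫ T.f) h1
    dsimp at z hz
    have h3 : z ≫ S.g = 0 := by
      rw [← cancel_mono φ.τ₃, Category.assoc, ← φ.comm₂₃, ← reassoc_of% hz]
      simp
    haveI := hS.mono_f
    have h4 : π' ≫ y = hS.exact.lift z h3 ≫ φ.τ₁ := by
      rw [← cancel_mono T.f, Category.assoc, hz, Category.assoc, φ.comm₁₂, hS.exact.lift_f_assoc]
    rw [← cancel_epi π, ← cancel_epi π', hy, reassoc_of% h4]
    simp
  · have : Epi (cokernel.π φ.τ₂ ≫ b) := by
      rw [show cokernel.π φ.τ₂ ≫ b = T.g ≫ cokernel.π φ.τ₃ from cokernel.π_desc _ _ _]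
      exact epi_comp _ _
    exact epi_of_epi (cokernel.π φ.τ₂) b

section Bifiltration

variable {A : ℕ → ℕ → C} (h : ∀ j k, A (j + 1) k ⟶ A j k) (v : ∀ j k, A j (k + 1) ⟶ A j k)

/-- The map between the cokernels induced by a pullback square is a monomorphism. -/
theorem mono_cokernel_map {P' A' B' D : C} {f : P' ⟶ A'} {g : P' ⟶ B'} {p : A' ⟶ D} {q : B' ⟶ D}
    (H : IsPullback f g p q) : Mono (cokernel.map f q g p H.w) := by
  refine Preadditive.mono_of_cancel_zero _ fun {W} x hx => ?_
  obtain ⟨W', π, hπ, y, hy⟩ := surjective_up_to_refinements_of_epi (cokernel.π f) x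
  have h1 : (y ≫ p) ≫ cokernel.π q = 0 := by
    have h2 : π ≫ x ≫ cokernel.map f q g p H.w = 0 := by rw [hx, comp_zero]
    rw [reassoc_of% hy] at h2
    simpa using h2
  obtain ⟨W'', π', hπ', z, hz⟩ := (ShortComplex.exact_cokernel q).exact_up_to_refinements (y ≫ p) h1
  dsimp at z hz
  let u := H.lift (π' ≫ y) z (by rw [Category.assoc, hz])
  have hu : u ≫ f = π' ≫ y := H.lift_fst _ _ _
  rw [← cancel_epi π, ← cancel_epi π', hy, ← reassoc_of% hu]
  simp

/-- The second cokernel. -/
noncomputable def coker₂Iso {P' A' B' D : C} {f : P' ⟶ A'} {g : P' ⟶ B'} {p : A' ⟶ D} {q : B' ⟶ D}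
    (w : f ≫ p = g ≫ q) :
    cokernel (cokernel.map f q g p w) ≅ cokernel (biprod.desc p q) where
  hom := cokernel.desc _ (cokernel.desc q (cokernel.π _) (by
      have h1 : q ≫ cokernel.π (biprod.desc p q) =
          biprod.inr ≫ biprod.desc p q ≫ cokernel.π (biprod.desc p q) :=
        (biprod.inr_desc_assoc p q _).symm
      rw [h1, cokernel.condition, comp_zero])) (by
    rw [← cancel_epi (cokernel.π f)]
    simp only [cokernel.map, cokernel.π_desc_assoc, Category.assoc, cokernel.π_desc, comp_zero]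
    have h1 : p ≫ cokernel.π (biprod.desc p q) =
        biprod.inl ≫ biprod.desc p q ≫ cokernel.π (biprod.desc p q) :=
      (biprod.inl_desc_assoc p q _).symm
    rw [h1, cokernel.condition, comp_zero])
  inv := cokernel.desc _ (cokernel.π q ≫ cokernel.π _) (by
    ext
    · simp only [biprod.inl_desc_assoc, comp_zero]
      rw [← Category.assoc, show p ≫ cokernel.π q = cokernel.π f ≫ cokernel.map f q g p w from
        (cokernel.π_desc _ _ _).symm, Category.assoc, cokernel.condition, comp_zero]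
    · simp)
  hom_inv_id := by ext; simp
  inv_hom_id := by ext; simp

/-- Cokernels in a coproduct. -/
theorem nonempty_iso_sigma_coker [SigmaMono.{w} C] {J : Type w} {F G : J → C} (f : ∀ j, F j ⟶ G j)
    [∀ j, Mono (f j)] :
    Nonempty (cokernel (Limits.Sigma.map f) ≅ ∐ fun j => cokernel (f j)) := by
  obtain ⟨w', h⟩ := shortExact_sigma_coker f
  exact ⟨(cokernelIsCokernel _).coconePointUniqueUpToIso h.gIsCokernel⟩

/-- Interchanging coproducts. -/
noncomputable def sigmaSwapIso {J K : Type w} {F : K → J → C} {G : J → K → C}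
    (e : ∀ k j, F k j ≅ G j k) :
    (∐ fun k => ∐ fun j => F k j) ≅ ∐ fun j => ∐ fun k => G j k where
  hom := Sigma.desc fun k => Sigma.desc fun j =>
    (e k j).hom ≫ Sigma.ι (fun k => G j k) k ≫ Sigma.ι (fun j => ∐ fun k => G j k) j
  inv := Sigma.desc fun j => Sigma.desc fun k =>
    (e k j).inv ≫ Sigma.ι (fun j => F k j) j ≫ Sigma.ι (fun k => ∐ fun j => F k j) k
  hom_inv_id := by
    refine Sigma.hom_ext _ _ fun k => Sigma.hom_ext _ _ fun j => ?_
    simp
  inv_hom_id := by
    refine Sigma.hom_ext _ _ fun j => Sigma.hom_ext _ _ fun k => ?_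
    simp

/-- The first cokernels of a bifiltration, and the map between them. -/
noncomputable def wMap {A : ℕ → ℕ → C} (h : ∀ j k, A (j + 1) k ⟶ A j k)
    (v : ∀ j k, A j (k + 1) ⟶ A j k)
    (H : ∀ j k, IsPullback (h j (k + 1)) (v (j + 1) k) (v j k) (h j k)) (j k : ℕ) :
    cokernel (h j (k + 1)) ⟶ cokernel (h j k) :=
  cokernel.map (h j (k + 1)) (h j k) (v (j + 1) k) (v j k) (H j k).w

/-- One side of the comparison of two filtrations. -/
theorem clSub_bifiltration [SigmaMono.{w} C] (h0 : ∀ Z : C, IsZero Z → P Z) {A : ℕ → ℕ → C}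
    (h : ∀ j k, A (j + 1) k ⟶ A j k) (v : ∀ j k, A j (k + 1) ⟶ A j k)
    (H : ∀ j k, IsPullback (h j (k + 1)) (v (j + 1) k) (v j k) (h j k))
    (hM : P (∐ fun j : ULift.{w} ℕ => cokernel (h j.down 0)))
    (hC : P (∐ fun k : ULift.{w} ℕ => ∐ fun j : ULift.{w} ℕ => cokernel (h j.down (k.down + 1))))
    (hX : P (∐ fun k : ULift.{w} ℕ => ∐ fun j : ULift.{w} ℕ => cokernel (h j.down k.down)))
    (hG : P (∐ fun k : ULift.{w} ℕ =>
      cokernel (Limits.Sigma.map fun j : ULift.{w} ℕ => wMap h v H j.down k.down)))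
    (hN : P (∐ fun k : ULift.{w} ℕ => ∐ fun j : ULift.{w} ℕ =>
      cokernel (biprod.desc (v j.down k.down) (h j.down k.down)))) :
    KZero.clSub P (∐ fun j : ULift.{w} ℕ => cokernel (h j.down 0)) =
      KZero.clSub P (∐ fun k : ULift.{w} ℕ => ∐ fun j : ULift.{w} ℕ =>
        cokernel (biprod.desc (v j.down k.down) (h j.down k.down))) := by
  haveI hw : ∀ (k : ℕ) (j : ULift.{w} ℕ), Mono (wMap h v H j.down k) :=
    fun k j => mono_cokernel_map (H j.down k)
  haveI : ∀ k : ℕ, Mono (Limits.Sigma.map fun j : ULift.{w} ℕ => wMap h v H j.down k) :=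
    fun k => SigmaMono.mono _
  refine (clSub_eq_gr (P := P) (fun k => ∐ fun j : ULift.{w} ℕ => cokernel (h j.down k))
    (fun k => Limits.Sigma.map fun j : ULift.{w} ℕ => wMap h v H j.down k) hM hC hX hG).trans ?_
  refine clSub_iso' h0 ?_ hG hN
  exact Sigma.mapIso fun k =>
    (nonempty_iso_sigma_coker fun j : ULift.{w} ℕ => wMap h v H j.down k.down).some ≪≫
      Sigma.mapIso fun j => coker₂Iso (H j.down k.down).w

/-- Two filtrations of a bifiltered object have the same graded class. -/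
theorem clSub_coker_swap (h0 : ∀ Z : C, IsZero Z → P Z) {A : ℕ → ℕ → C}
    (h : ∀ j k, A (j + 1) k ⟶ A j k) (v : ∀ j k, A j (k + 1) ⟶ A j k)
    (hN : P (∐ fun k : ULift.{w} ℕ => ∐ fun j : ULift.{w} ℕ =>
      cokernel (biprod.desc (v j.down k.down) (h j.down k.down))))
    (hN' : P (∐ fun j : ULift.{w} ℕ => ∐ fun k : ULift.{w} ℕ =>
      cokernel (biprod.desc (h j.down k.down) (v j.down k.down)))) :
    KZero.clSub P (∐ fun k : ULift.{w} ℕ => ∐ fun j : ULift.{w} ℕ =>
        cokernel (biprod.desc (v j.down k.down) (h j.down k.down))) =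
      KZero.clSub P (∐ fun j : ULift.{w} ℕ => ∐ fun k : ULift.{w} ℕ =>
        cokernel (biprod.desc (h j.down k.down) (v j.down k.down))) :=
  clSub_iso' h0 (sigmaSwapIso fun k j => cokernel.mapIso (biprod.desc (v j.down k.down) (h j.down k.down))
    (biprod.desc (h j.down k.down) (v j.down k.down)) (biprod.braiding _ _) (Iso.refl _) (by
      ext <;> simp)) hN hN'

end Bifiltration

end GrothLib.K0Sub
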