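import Groth.Agent.Lib.K0Sub.Killed
import Groth.Agent.Lib.K0Sub.Swindle
import Groth.Agent.Lib.SheafCoh.ModGroth
import Groth.Agent.Lib.QCoh.DevissageRoots
import Groth.Agent.Lib.QCoh.Abelian
import Mathlib.CategoryTheory.Abelian.GrothendieckAxioms.Basic
import Mathlib.Topology.LocallyFinite

/-!
# Coproducts of locally finite families of coherent modules
-/

universe u

open CategoryTheory CategoryTheory.Limits AlgebraicGeometry TopologicalSpace Opposite

namespace GrothLib.K0Sub

variable {X : Scheme.{u}}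

attribute [local instance] Abelian.hasFiniteBiproducts

instance sigmaMono_modules : SigmaMono.{u} X.Modules := by
  haveI : IsGrothendieckAbelian.{u} X.Modules :=
    GrothLib.SheafCoh.isGrothendieckAbelian_sheafOfModules _
  haveI : AB4OfSize.{u} X.Modules := AB4.of_AB5 _
  exact sigmaMono_of_ab4

/-- Maps out of the stalk of a coproduct are determined on the summands. -/
theorem stalk_sigma_hom_ext {J : Type u} {F : J → X.Modules} {x : X}
    {M : ModuleCat.{u} (X.presheaf.stalk x)} (f g : (OX.stalk x).obj (∐ F) ⟶ M)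
    (h : ∀ j, (OX.stalk x).map (Sigma.ι F j) ≫ f = (OX.stalk x).map (Sigma.ι F j) ≫ g) : f = g := by
  haveI : PreservesColimitsOfSize.{u, u} (OX.stalk x) :=
    (OX.stalkSkyAdj x).leftAdjoint_preservesColimits
  exact (isColimitOfPreserves (OX.stalk x) (colimit.isColimit (Discrete.functor F))).hom_ext
    fun j => h j.as

theorem support_sigma_subset {J : Type u} (F : J → X.Modules) :
    CohB1.support (∐ F) ⊆ ⋃ j, CohB1.support (F j) := by
  intro x hx
  by_contra hx'
  have h : 𝟙 ((OX.stalk x).obj (∐ F)) = 0 := stalk_sigma_hom_ext _ _ fun j => by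
    haveI : Subsingleton ((OX.stalk x).obj (F j)) :=
      QCoh.stalk_subsingleton_of_notMem fun hj => hx' (Set.mem_iUnion.2 ⟨j, hj⟩)
    exact (ModuleCat.isZero_of_subsingleton _).eq_of_src _ _
  exact hx (ModuleCat.subsingleton_of_isZero ((IsZero.iff_id_eq_zero _).2 h))

/-- Coherent modules with locally finite supports. -/
structure LF {J : Type u} (F : J → X.Modules) : Prop where
  coh : ∀ j, Coh.IsCoh (F j)
  fin : LocallyFinite fun j => CohB1.support (F j)

variable {J : Type u} {F : J → X.Modules}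

theorem LF.of_subset (h : LF F) {G : J → X.Modules} (hG : ∀ j, Coh.IsCoh (G j))
    (hs : ∀ j, CohB1.support (G j) ⊆ CohB1.support (F j)) : LF G :=
  ⟨hG, h.fin.subset hs⟩

theorem LF.comp (h : LF F) {K : Type u} {e : K → J} (he : Function.Injective e) :
    LF fun k => F (e k) :=
  ⟨fun k => h.coh _, h.fin.comp_injective he⟩

theorem LF.isCoh_sigma [IsLocallyNoetherian X] (h : LF F) : Coh.IsCoh (∐ F) := by
  classical
  haveI hq : (∐ F).IsQuasicoherent :=
    QCoh.isQuasicoherent_colimit (Discrete.functor F) fun a => (h.coh a.as).1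
  refine ⟨hq, (QCoh.isFiniteType_iff_moduleFinite _).2 fun U hU => ?_⟩
  have hfin := h.fin.finite_nonempty_inter_compact hU.isCompact
  let S := hfin.toFinset
  let G : Fin S.card → X.Modules := fun t => F (S.equivFin.symm t).1
  let φ : ⨁ G ⟶ ∐ F := biproduct.desc fun t => Sigma.ι F (S.equivFin.symm t).1
  have hB : Coh.IsCoh (⨁ G) := QCoh.isCoh_biproduct_fin G fun t => h.coh _
  haveI := hB.1
  haveI : (cokernel φ).IsQuasicoherent := QCoh.isQuasicoherent_cokernel φ
  haveI : (kernel (cokernel.π φ)).IsQuasicoherent := QCoh.isQuasicoherent_kernel _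
  haveI : (kernel φ).IsQuasicoherent := QCoh.isQuasicoherent_kernel _
  have hC : ∀ y ∈ U, y ∉ CohB1.support (cokernel φ) := by
    intro y hy hs
    have h1 : (OX.stalk y).map (cokernel.π φ) = 0 := stalk_sigma_hom_ext _ _ fun j => by
      rw [← Functor.map_comp, comp_zero]
      by_cases hj : j ∈ S
      · have h2 : Sigma.ι F j ≫ cokernel.π φ = 0 := by
          have key : ∀ (i : J) (t : Fin S.card), (S.equivFin.symm t).1 = i →
              Sigma.ι F i ≫ cokernel.π φ = 0 := by
            rintro i t rfl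
            have h3 := congrArg (biproduct.ι G t ≫ ·) (cokernel.condition φ)
            simp only [φ, biproduct.ι_desc_assoc, comp_zero] at h3
            exact h3
          exact key j (S.equivFin ⟨j, hj⟩) (by rw [Equiv.symm_apply_apply])
        rw [h2, Functor.map_zero]
      · haveI : Subsingleton ((OX.stalk y).obj (F j)) :=
          QCoh.stalk_subsingleton_of_notMem fun hyj => hj (hfin.mem_toFinset.2 ⟨y, hyj, hy⟩)
        exact (ModuleCat.isZero_of_subsingleton _).eq_of_src _ _
    refine hs (ModuleCat.subsingleton_of_isZero (M := (OX.stalk y).obj (cokernel φ))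
      ((IsZero.iff_id_eq_zero _).2 ?_))
    rw [← cancel_epi ((OX.stalk y).map (cokernel.π φ))]
    simp [h1]
  have hC0 : ∀ m : Γ(cokernel φ, U), m = 0 := fun m =>
    QCoh.section_eq_zero_of_germ _ m fun y hy => (QCoh.notMem_support_iff _ y).1 (hC y hy) U hy m
  obtain ⟨w, hS⟩ := QCoh.shortExact_kernel_image φ
  have e1 := QCoh.app_surjective_of_isAffineOpen hS hU
  haveI := QCoh.moduleFinite_of_isFiniteType (⨁ G) hB.2 hU
  refine Module.Finite.of_surjective (QCoh.appLinear φ U) fun m => ?_
  obtain ⟨a, ha⟩ := QCoh.app_exact (QCoh.shortExact_image_cokernel φ) U m (hC0 _)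
  obtain ⟨b, rfl⟩ := e1 a
  exact ⟨b, (congrArg (fun g => Scheme.Modules.Hom.app g U b) (Abelian.image.fac φ)).symm.trans ha⟩

theorem LF.killed_sigma [IsLocallyNoetherian X] {I : X.IdealSheafData} (h : LF F)
    (hk : ∀ j, ClSub.KilledByIdeal I (F j)) : ClSub.KilledByIdeal I (∐ F) := by
  intro U a ha m
  refine QCoh.section_eq_zero_of_germ _ _ fun y hy => ?_
  refine (WeakAss.germ_smul (F := ∐ F) hy a m).trans ?_
  let r := X.presheaf.germ U.1 y hy a
  have hr : ∀ j, ∀ e : (OX.stalk y).obj (F j), r • e = 0 := by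
    intro j e
    haveI := (h.coh j).1
    obtain ⟨c, z, hc, hz⟩ := WeakAss.exists_smul_eq_germ U.2 hy e
    have hu : IsUnit (X.presheaf.germ U.1 y hy c) :=
      (Scheme.mem_basicOpen _ c y hy).mp (WeakAss.notMem_primeAt_iff.mp hc)
    refine hu.smul_eq_zero.mp ?_
    rw [smul_comm]
    refine (congrArg (r • ·) hz).trans ((WeakAss.germ_smul (F := F j) hy a z).symm.trans ?_)
    exact (congrArg _ (hk j U a ha z)).trans (map_zero _)
  let M : ModuleCat.{u} (X.presheaf.stalk y) := (OX.stalk y).obj (∐ F)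
  let μ : M ⟶ M := ModuleCat.ofHom (r • (LinearMap.id : M →ₗ[X.presheaf.stalk y] M))
  have h0 : μ = 0 :=
    stalk_sigma_hom_ext (F := F) (x := y) μ 0 fun j => by
      refine ModuleCat.hom_ext (LinearMap.ext fun e => ?_)
      change r • ((OX.stalk y).map (Sigma.ι F j)).hom e = 0
      rw [← map_smul, hr, map_zero]
  have h1 := congrArg (fun g : (OX.stalk y).obj (∐ F) ⟶ (OX.stalk y).obj (∐ F) =>
    g.hom ((∐ F).presheaf.germ U.1 y hy m)) h0
  exact h1

/-- A doubly indexed locally finite family gives a locally finite family of coproducts. -/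
theorem LF.nested [IsLocallyNoetherian X] {K : Type u} {G : K → J → X.Modules}
    (h : LF fun p : K × J => G p.1 p.2) : LF fun k => ∐ fun j => G k j := by
  refine ⟨fun k => (h.comp (e := fun j : J => (k, j)) fun a b e => (Prod.ext_iff.1 e).2).isCoh_sigma,
    fun x => ?_⟩
  obtain ⟨t, ht, hfin⟩ := h.fin x
  refine ⟨t, ht, (hfin.image Prod.fst).subset ?_⟩
  rintro k ⟨y, hy, hyt⟩
  obtain ⟨j, hj⟩ := Set.mem_iUnion.1 (support_sigma_subset _ hy)
  exact ⟨(k, j), ⟨y, hj, hyt⟩, rfl⟩

end GrothLib.K0Sub
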