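import Groth.Agent.Lib.K0Sub.LocFree
import Groth.Agent.Lib.K0Sub.Basic
import Groth.Agent.Lib.OX.LocalLift
import Groth.Agent.Lib.OX.Support
import Groth.Agent.Lib.OX.Exact
import Groth.Prelude.Def_KRR

/-!
Pull-back on `K₀` of finite locally free modules.
-/

set_option autoImplicit false
universe v u

open CategoryTheory CategoryTheory.Limits AlgebraicGeometry

namespace GrothLib.K0Sub

variable {X Y : Scheme.{u}} (f : X ⟶ Y)

/-- Pull-back keeps short exact sequences with locally free quotient exact. -/
theorem shortExact_map_pullback (S : ShortComplex Y.Modules) (hS : S.ShortExact)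
    (h₃ : FlatMod.IsFinLocFree S.X₃) [(Scheme.Modules.pullback f).Additive] :
    (S.map (Scheme.Modules.pullback f)).ShortExact := by
  haveI := hS.epi_g
  haveI := hS.mono_f
  haveI : (Scheme.Modules.pullback f).IsLeftAdjoint := (Scheme.Modules.pullbackPushforwardAdjunction f).isLeftAdjoint
  haveI : PreservesFiniteColimits (Scheme.Modules.pullback f) :=
    ⟨fun J _ _ => inferInstance⟩
  let F := Scheme.Modules.pullback f
  have hm : Mono (F.map S.f) := by
    refine Preadditive.mono_of_isZero_kernel _ (OX.isZero_of_subsingleton_stalks _ fun x => ?_)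
    obtain ⟨U, j, hj, s, hx, hs⟩ := OX.exists_local_lift h₃ S.g (𝟙 _) (f x)
    let R := Scheme.Modules.restrictFunctor j
    haveI : Epi (S.map R).g := inferInstanceAs (Epi (R.map S.g))
    haveI : Mono (S.map R).f := inferInstanceAs (Mono (R.map S.f))
    let spl := ShortComplex.Splitting.ofExactOfSection (S.map R) (hS.exact.map R) s
      (hs.trans (R.map_id _)) inferInstance
    let j' : pullback f j ⟶ X := pullback.fst f j
    let R' := Scheme.Modules.restrictFunctor j'
    let θ : F ⋙ R' ≅ R ⋙ Scheme.Modules.pullback (pullback.snd f j) :=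
      Functor.isoWhiskerLeft F (Scheme.Modules.restrictFunctorIsoPullback j') ≪≫
        Scheme.Modules.pullbackComp j' f ≪≫
        eqToIso (congrArg Scheme.Modules.pullback pullback.condition) ≪≫
        (Scheme.Modules.pullbackComp (pullback.snd f j) j).symm ≪≫
        Functor.isoWhiskerRight (Scheme.Modules.restrictFunctorIsoPullback j).symm _
    have hr : Mono (R'.map (F.map S.f)) := by
      have h1 : Mono ((R ⋙ Scheme.Modules.pullback (pullback.snd f j)).map S.f) :=
        (⟨(Scheme.Modules.pullback (pullback.snd f j)).map spl.r, by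
          show (Scheme.Modules.pullback (pullback.snd f j)).map (R.map S.f) ≫ _ = 𝟙 _
          exact ((Scheme.Modules.pullback (pullback.snd f j)).map_comp _ _).symm.trans
            ((congrArg _ spl.f_r).trans (CategoryTheory.Functor.map_id _ _))⟩ : SplitMono _).mono
      show Mono ((F ⋙ R').map S.f)
      have e : (F ⋙ R').map S.f = θ.hom.app _ ≫ (R ⋙ Scheme.Modules.pullback (pullback.snd f j)).map S.f ≫ θ.inv.app _ := by
        rw [θ.inv.naturality, ← Category.assoc, Iso.hom_inv_id_app, Category.id_comp]
      rw [e]
      infer_instance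
    have hz : IsZero (R'.obj (kernel (F.map S.f))) :=
      (isZero_kernel_of_mono (R'.map (F.map S.f))).of_iso (PreservesKernel.iso R' (F.map S.f))
    have hxr : x ∈ Set.range j' := by
      rw [Scheme.Pullback.range_fst]
      exact hx
    exact not_not.1 fun h => OX.support_subset_of_isZero_restrict j' hz h hxr
  haveI : Mono (S.map F).f := hm
  haveI : Epi (S.map F).g := inferInstanceAs (Epi (F.map S.g))
  exact { exact := hS.exact.map_of_epi_of_preservesCokernel F hS.epi_g inferInstance }

/-- Pull-back on `K₀` of vector bundles. -/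
theorem exists_pull : ∃ ψ : SGA6.Kvb Y →+ SGA6.Kvb X, ∀ E : Y.Modules, FlatMod.IsFinLocFree E →
    ψ (KRR.cl Y E) = KRR.cl X ((Scheme.Modules.pullback f).obj E) := by
  haveI : (Scheme.Modules.pullback f).Additive :=
    (Scheme.Modules.pullbackPushforwardAdjunction f).left_adjoint_additive
  exact exists_lift (P := KRR.vbP Y) (fun E => KRR.cl X ((Scheme.Modules.pullback f).obj E)) fun S hS h₁ h₂ h₃ =>
    clSub_add (P := KRR.vbP X) (S := S.map (Scheme.Modules.pullback f)) (shortExact_map_pullback f S hS h₃)
      (OX.isFinLocFree_pullback f h₁) (OX.isFinLocFree_pullback f h₂) (OX.isFinLocFree_pullback f h₃)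

end GrothLib.K0Sub
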