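import Groth.Agent.Lib.K0Sub.KerUnit

/-!
# `K₀` of the coherent modules supported in a closed subscheme

Coherent modules supported in a closed subscheme have locally finite (possibly unbounded)
filtrations with quotients killed by the ideal, and this suffices for dévissage.
-/

universe u

open CategoryTheory CategoryTheory.Limits AlgebraicGeometry TopologicalSpace Opposite

namespace GrothLib.K0Sub

variable {X Z : Scheme.{u}} (i : Z ⟶ X) [IsClosedImmersion i] [IsLocallyNoetherian X]

/-- Coherent modules supported in the image. -/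
abbrev suppP : ObjectProperty X.Modules := fun M =>
  Coh.IsCoh M ∧ ∀ x : X, Nontrivial (M.presheaf.stalk x) → x ∈ Set.range ⇑i

omit [IsClosedImmersion i] [IsLocallyNoetherian X] in
theorem suppP_iff {M : X.Modules} :
    suppP i M ↔ Coh.IsCoh M ∧ CohB1.support M ⊆ Set.range i :=
  and_congr_right fun _ => forall_congr' fun x =>
    imp_congr_left not_subsingleton_iff_nontrivial.symm

theorem killedP.supp {M : X.Modules} (h : killedP i M) : suppP i M := by
  haveI := h.1.1
  exact (suppP_iff i).2 ⟨h.1, QCoh.support_subset_range i M h.2⟩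

theorem killedP_of_isZero {M : X.Modules} (h : IsZero M) : killedP i M := by
  refine ⟨Euler.isCoh_of_isZero h, fun U a _ m => ?_⟩
  have key : ∀ x : Γ(M, U.1), x = 0 := fun x => by
    have := congrArg (fun g : M ⟶ M => g.app U.1 x) (h.eq_of_src (𝟙 M) 0)
    simpa using this
  exact key _

/-- Submodules of killed modules. -/
theorem killedP_of_mono {M N : X.Modules} (f : M ⟶ N) [Mono f] (hM : Coh.IsCoh M)
    (hN : killedP i N) : killedP i M :=
  ((devHyp i).sub _ (ShortComplex.ShortExact.mk' (ShortComplex.exact_cokernel f) inferInstance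
    inferInstance) hM hN (QCoh.isCoh_cokernel _ hM hN.1)).1

theorem killedP_cokernel_of_killed {M N : X.Modules} (f : M ⟶ N) (hM : Coh.IsCoh M)
    (hN : killedP i N) : killedP i (cokernel f) :=
  ((devHyp i).imageQ f hM hN).2

theorem killedP_sigma {J : Type u} {F : J → X.Modules} (h : LF F) (hk : ∀ j, killedP i (F j)) :
    killedP i (∐ F) :=
  ⟨h.isCoh_sigma, h.killed_sigma fun j => (hk j).2⟩

theorem suppP_sigma {J : Type u} {F : J → X.Modules} (h : LF F) (hs : ∀ j, suppP i (F j)) :
    suppP i (∐ F) :=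
  (suppP_iff i).2 ⟨h.isCoh_sigma, (support_sigma_subset F).trans
    (Set.iUnion_subset fun j => ((suppP_iff i).1 (hs j)).2)⟩

/-- A locally finite filtration with killed quotients. -/
structure Filt (F : X.Modules) where
  /-- the steps -/
  obj : ℕ → X.Modules
  /-- the inclusions -/
  map : ∀ n, obj (n + 1) ⟶ obj n
  mono : ∀ n, Mono (map n)
  /-- the zeroth step -/
  iso : obj 0 ≅ F
  lf : LF fun n : ULift.{u} ℕ => obj n.down
  killed : ∀ n, killedP i (cokernel (map n))

attribute [instance] Filt.mono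

/-- The associated graded module. -/
noncomputable abbrev Filt.gr {F : X.Modules} (A : Filt i F) : X.Modules :=
  ∐ fun n : ULift.{u} ℕ => cokernel (A.map n.down)

theorem Filt.lf_gr {F : X.Modules} (A : Filt i F) :
    LF fun n : ULift.{u} ℕ => cokernel (A.map n.down) :=
  A.lf.of_subset (fun n => (A.killed n.down).1)
    fun n => QCoh.support_subset_of_epi (cokernel.π (A.map n.down))

theorem Filt.gr_killed {F : X.Modules} (A : Filt i F) : killedP i A.gr :=
  killedP_sigma i A.lf_gr fun n => A.killed n.down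

theorem LF.succ {M : ℕ → X.Modules} (h : LF fun n : ULift.{u} ℕ => M n.down) :
    LF fun n : ULift.{u} ℕ => M (n.down + 1) :=
  h.comp (e := fun n : ULift.{u} ℕ => (⟨n.down + 1⟩ : ULift.{u} ℕ))
    fun a b e => ULift.ext _ _ (Nat.succ_injective (congrArg ULift.down e))

/-- The composite inclusion. -/
noncomputable def Filt.ι {F : X.Modules} (A : Filt i F) : ∀ n, A.obj n ⟶ F
  | 0 => A.iso.hom
  | n + 1 => A.map n ≫ A.ι n

instance Filt.mono_ι {F : X.Modules} (A : Filt i F) : ∀ n, Mono (A.ι i n)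
  | 0 => inferInstanceAs (Mono A.iso.hom)
  | n + 1 => by
    haveI := Filt.mono_ι A n
    exact inferInstanceAs (Mono (A.map n ≫ A.ι i n))

attribute [local simp] pullback.lift_fst pullback.lift_fst_assoc pullback.lift_snd pullback.lift_snd_assoc
  pullbackSymmetry_hom_comp_fst pullbackSymmetry_hom_comp_snd

section Lift

variable {C : Type*} [Category C] [HasPullbacks C] {A A' B B' F : C} (a : A ⟶ F) (b : B ⟶ F)

theorem isPullback_lift₁ (m : A' ⟶ A) (a' : A' ⟶ F) (ha : m ≫ a = a') :
    IsPullback (pullback.lift (f := a) (g := b) (pullback.fst a' b ≫ m) (pullback.snd a' b)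
      (by rw [Category.assoc, ha, pullback.condition]))
      (pullback.fst a' b) (pullback.fst a b) m := by
  subst ha
  refine ⟨⟨pullback.lift_fst _ _ _⟩, ⟨PullbackCone.IsLimit.mk _ (fun s => pullback.lift s.snd
    (s.fst ≫ pullback.snd a b) (by
      rw [← reassoc_of% s.condition, pullback.condition, Category.assoc]))
    (fun s => ?_) (fun s => by simp) (fun s x h1 h2 => ?_)⟩⟩
  · apply pullback.hom_ext
    · simpa using s.condition.symm
    · simp
  · apply pullback.hom_ext
    · simp [← h2]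
    · simp [← h1]

theorem isPullback_lift₂ (m : A' ⟶ A) (n : B' ⟶ B) (a' : A' ⟶ F) (b' : B' ⟶ F) (ha : m ≫ a = a')
    (hb : n ≫ b = b') :
    IsPullback
      (pullback.lift (f := a) (g := b') (pullback.fst a' b' ≫ m) (pullback.snd a' b')
        (by rw [Category.assoc, ha, pullback.condition]))
      (pullback.lift (f := a') (g := b) (pullback.fst a' b') (pullback.snd a' b' ≫ n)
        (by rw [Category.assoc, hb, pullback.condition]))
      (pullback.lift (f := a) (g := b) (pullback.fst a b') (pullback.snd a b' ≫ n)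
        (by rw [Category.assoc, hb, pullback.condition]))
      (pullback.lift (f := a) (g := b) (pullback.fst a' b ≫ m) (pullback.snd a' b)
        (by rw [Category.assoc, ha, pullback.condition])) := by
  subst ha hb
  refine ⟨⟨by apply pullback.hom_ext <;> simp⟩, ⟨PullbackCone.IsLimit.mk _ (fun s => pullback.lift
    (s.snd ≫ pullback.fst (m ≫ a) b) (s.fst ≫ pullback.snd a (n ≫ b)) ?_) (fun s => ?_) (fun s => ?_)
    (fun s x h1 h2 => ?_)⟩⟩
  · have h1 := congrArg (· ≫ pullback.fst _ _) s.condition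
    simp only [Category.assoc, pullback.lift_fst] at h1
    have h1' := congrArg (· ≫ a) h1
    simp only [Category.assoc] at h1'
    exact (Category.assoc _ _ _).trans (h1'.symm.trans
      ((congrArg (s.fst ≫ ·) pullback.condition).trans (Category.assoc _ _ _).symm))
  · apply pullback.hom_ext
    · have h1 := congrArg (· ≫ pullback.fst _ _) s.condition
      simpa using h1.symm
    · simp
  · apply pullback.hom_ext
    · simp
    · have h1 := congrArg (· ≫ pullback.snd _ _) s.condition
      simpa using h1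
  · apply pullback.hom_ext
    · simp [← h2]
    · simp [← h1]

end Lift

section Compare

variable {F : X.Modules} (A B : Filt i F)

/-- The bifiltration. -/
noncomputable abbrev bi (j k : ℕ) : X.Modules := pullback (A.ι i j) (B.ι i k)

/-- Horizontal inclusion. -/
noncomputable abbrev biH (j k : ℕ) : bi i A B (j + 1) k ⟶ bi i A B j k :=
  pullback.lift (pullback.fst _ _ ≫ A.map j) (pullback.snd _ _)
    ((Category.assoc _ _ _).trans pullback.condition)

/-- Vertical inclusion. -/
noncomputable abbrev biV (j k : ℕ) : bi i A B j (k + 1) ⟶ bi i A B j k :=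
  pullback.lift (pullback.fst _ _) (pullback.snd _ _ ≫ B.map k)
    (pullback.condition.trans (Category.assoc _ _ _).symm)

@[reassoc (attr := simp)]
theorem biH_fst (j k : ℕ) :
    biH i A B j k ≫ pullback.fst _ _ = pullback.fst _ _ ≫ A.map j :=
  pullback.lift_fst _ _ _

@[reassoc (attr := simp)]
theorem biH_snd (j k : ℕ) : biH i A B j k ≫ pullback.snd _ _ = pullback.snd _ _ :=
  pullback.lift_snd _ _ _

@[reassoc (attr := simp)]
theorem biV_fst (j k : ℕ) : biV i A B j k ≫ pullback.fst _ _ = pullback.fst _ _ :=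
  pullback.lift_fst _ _ _

@[reassoc (attr := simp)]
theorem biV_snd (j k : ℕ) :
    biV i A B j k ≫ pullback.snd _ _ = pullback.snd _ _ ≫ B.map k :=
  pullback.lift_snd _ _ _

theorem isPullback_bi (j k : ℕ) :
    IsPullback (biH i A B j (k + 1)) (biV i A B (j + 1) k) (biV i A B j k) (biH i A B j k) :=
  isPullback_lift₂ (A.ι i j) (B.ι i k) (A.map j) (B.map k) (A.ι i (j + 1)) (B.ι i (k + 1)) rfl rfl

theorem isCoh_bi (hF : Coh.IsCoh F) (j k : ℕ) : Coh.IsCoh (bi i A B j k) :=
  QCoh.isCoh_of_iso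
    ((Abelian.PullbackToBiproductIsKernel.isLimitPullbackToBiproduct (A.ι i j) (B.ι i k)
      ).conePointUniqueUpToIso (kernelIsKernel (biprod.desc (A.ι i j) (-(B.ι i k))))).symm
    (QCoh.isCoh_kernel _ (QCoh.isCoh_biprod' (A.lf.coh ⟨j⟩) (B.lf.coh ⟨k⟩)) hF)

theorem killedP_coker_biH (hF : Coh.IsCoh F) (j k : ℕ) :
    killedP i (cokernel (biH i A B j k)) := by
  have H : IsPullback (biH i A B j k) (pullback.fst (A.ι i (j + 1)) (B.ι i k))
      (pullback.fst (A.ι i j) (B.ι i k)) (A.map j) := by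
    exact isPullback_lift₁ (A.ι i j) (B.ι i k) (A.map j) (A.ι i (j + 1)) rfl
  haveI := mono_cokernel_map H
  exact killedP_of_mono i (cokernel.map (biH i A B j k) (A.map j)
      (pullback.fst (A.ι i (j + 1)) (B.ι i k)) (pullback.fst (A.ι i j) (B.ι i k)) H.w)
    (QCoh.isCoh_cokernel _ (isCoh_bi i A B hF _ _) (isCoh_bi i A B hF _ _)) (A.killed j)

theorem killedP_coker_biprod (hF : Coh.IsCoh F) (j k : ℕ) :
    killedP i (cokernel (biprod.desc (biV i A B j k) (biH i A B j k))) := by
  exact ((devHyp i).clSub_iso (coker₂Iso (isPullback_bi i A B j k).w)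
    (killedP_cokernel_of_killed i _ (killedP_coker_biH i A B hF j (k + 1)).1
      (killedP_coker_biH i A B hF j k))
    (QCoh.isCoh_cokernel _ (QCoh.isCoh_biprod' (isCoh_bi i A B hF _ _) (isCoh_bi i A B hF _ _))
      (isCoh_bi i A B hF _ _))).1

theorem lf_bi (hF : Coh.IsCoh F) :
    LF fun p : ULift.{u} ℕ × ULift.{u} ℕ => bi i A B p.1.down p.2.down := by
  refine ⟨fun p => isCoh_bi i A B hF _ _, fun x => ?_⟩
  obtain ⟨s, hs, hA⟩ := A.lf.fin x
  obtain ⟨t, ht, hB⟩ := B.lf.fin x
  refine ⟨s ∩ t, Filter.inter_mem hs ht, (hA.prod hB).subset ?_⟩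
  rintro p ⟨y, hy, hys, hyt⟩
  exact ⟨⟨y, QCoh.support_subset_of_mono (pullback.fst (A.ι i p.1.down) (B.ι i p.2.down)) hy, hys⟩,
    ⟨y, QCoh.support_subset_of_mono (pullback.snd (A.ι i p.1.down) (B.ι i p.2.down)) hy, hyt⟩⟩

theorem lf_bi_swap (hF : Coh.IsCoh F) :
    LF fun p : ULift.{u} ℕ × ULift.{u} ℕ => bi i A B p.2.down p.1.down :=
  (lf_bi i A B hF).comp (e := Prod.swap) Prod.swap_injective

theorem killedP_nested {G : ULift.{u} ℕ → ULift.{u} ℕ → X.Modules}
    (h : LF fun p : ULift.{u} ℕ × ULift.{u} ℕ => G p.1 p.2) (hk : ∀ k j, killedP i (G k j)) :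
    killedP i (∐ fun k => ∐ fun j => G k j) :=
  killedP_sigma i h.nested fun k => killedP_sigma i
    (h.comp (e := fun j => (k, j)) fun _ _ e => (Prod.ext_iff.1 e).2) (hk k)

theorem clSub_gr_eq_bigraded (hF : Coh.IsCoh F) :
    KZero.clSub (killedP i) A.gr =
      KZero.clSub (killedP i) (∐ fun k : ULift.{u} ℕ => ∐ fun j : ULift.{u} ℕ =>
        cokernel (biprod.desc (biV i A B j.down k.down) (biH i A B j.down k.down))) := by
  let W : ULift.{u} ℕ → ULift.{u} ℕ → X.Modules := fun k j => cokernel (biH i A B j.down k.down)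
  have hW : LF fun p : ULift.{u} ℕ × ULift.{u} ℕ => W p.1 p.2 :=
    (lf_bi_swap i A B hF).of_subset (fun p => (killedP_coker_biH i A B hF _ _).1)
      fun p => QCoh.support_subset_of_epi (cokernel.π _)
  have hinj : Function.Injective
      (fun p : ULift.{u} ℕ × ULift.{u} ℕ => ((⟨p.1.down + 1⟩ : ULift.{u} ℕ), p.2)) :=
    fun p q e => Prod.ext
      (ULift.ext _ _ (Nat.succ_injective (congrArg (fun r => r.1.down) e))) (congrArg (fun r => r.2) e)
  have hW' : LF fun p : ULift.{u} ℕ × ULift.{u} ℕ => W ⟨p.1.down + 1⟩ p.2 :=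
    LF.comp (F := fun p : ULift.{u} ℕ × ULift.{u} ℕ => W p.1 p.2) hW hinj
  have hk : ∀ k j, killedP i (W k j) := fun k j => killedP_coker_biH i A B hF _ _
  have hC := killedP_nested i (G := fun k j => W ⟨k.down + 1⟩ j) hW' (fun k j => hk _ j)
  have hX := killedP_nested i hW hk
  have hM : killedP i (∐ fun j : ULift.{u} ℕ => cokernel (biH i A B j.down 0)) :=
    killedP_sigma i (hW.comp (e := fun j => ((⟨0⟩ : ULift.{u} ℕ), j))
      fun _ _ e => (Prod.ext_iff.1 e).2) fun j => hk ⟨0⟩ j
  have hN : killedP i (∐ fun k : ULift.{u} ℕ => ∐ fun j : ULift.{u} ℕ =>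
      cokernel (biprod.desc (biV i A B j.down k.down) (biH i A B j.down k.down))) :=
    killedP_nested i ((lf_bi_swap i A B hF).of_subset
      (fun p => (killedP_coker_biprod i A B hF _ _).1)
      fun p => QCoh.support_subset_of_epi (cokernel.π _))
      fun k j => killedP_coker_biprod i A B hF _ _
  have hG : killedP i (∐ fun k : ULift.{u} ℕ => cokernel (Limits.Sigma.map fun j : ULift.{u} ℕ =>
      wMap (biH i A B) (biV i A B) (isPullback_bi i A B) j.down k.down)) := by
    have hc : ∀ k : ULift.{u} ℕ, killedP i (cokernel (Limits.Sigma.map fun j : ULift.{u} ℕ =>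
        wMap (biH i A B) (biV i A B) (isPullback_bi i A B) j.down k.down)) := fun k =>
      killedP_cokernel_of_killed i _
        (hW'.comp (e := fun j => (k, j)) fun _ _ e => (Prod.ext_iff.1 e).2).isCoh_sigma
        (killedP_sigma i (hW.comp (e := fun j => (k, j)) fun _ _ e => (Prod.ext_iff.1 e).2)
          fun j => hk k j)
    exact killedP_sigma i (hW.nested.of_subset (fun k => (hc k).1)
      fun k => QCoh.support_subset_of_epi (cokernel.π _)) hc
  have h0 := clSub_bifiltration (fun Z hZ => killedP_of_isZero i hZ) (biH i A B) (biV i A B)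
    (isPullback_bi i A B) hM hC hX hG hN
  refine Eq.trans ?_ h0
  haveI : IsIso (B.ι i 0) := inferInstanceAs (IsIso B.iso.hom)
  exact clSub_iso' (fun Z hZ => killedP_of_isZero i hZ)
    (Sigma.mapIso fun j => (cokernel.mapIso (biH i A B j.down 0) (A.map j.down)
      (asIso (pullback.fst (A.ι i (j.down + 1)) (B.ι i 0))) (asIso (pullback.fst (A.ι i j.down) (B.ι i 0)))
      (pullback.lift_fst _ _ _)).symm) A.gr_killed hM

theorem clSub_gr_eq (hF : Coh.IsCoh F) :
    KZero.clSub (killedP i) A.gr = KZero.clSub (killedP i) B.gr := by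
  rw [clSub_gr_eq_bigraded i A B hF, clSub_gr_eq_bigraded i B A hF]
  have hN : ∀ (A B : Filt i F), killedP i (∐ fun k : ULift.{u} ℕ => ∐ fun j : ULift.{u} ℕ =>
      cokernel (biprod.desc (biV i A B j.down k.down) (biH i A B j.down k.down))) := fun A B =>
    killedP_nested i ((lf_bi_swap i A B hF).of_subset
      (fun p => (killedP_coker_biprod i A B hF _ _).1)
      fun p => QCoh.support_subset_of_epi (cokernel.π _))
      fun k j => killedP_coker_biprod i A B hF _ _
  refine clSub_iso' (fun Z hZ => killedP_of_isZero i hZ) (sigmaSwapIso fun k j => ?_) (hN A B) (hN B A)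
  refine cokernel.mapIso _ _ (biprod.braiding' _ _ ≪≫
      biprod.mapIso (pullbackSymmetry _ _) (pullbackSymmetry _ _)) (pullbackSymmetry _ _) ?_
  apply biprod.hom_ext' <;> apply pullback.hom_ext <;> simp

end Compare

/-- The adic filtration. -/
noncomputable def kfFilt (F : X.Modules) (hF : suppP i F) : Filt i F where
  obj n := kf i n F
  map n := kfι i n F
  mono n := inferInstance
  iso := Iso.refl _
  lf := locallyFinite_kf i hF.1 ((suppP_iff i).1 hF).2
  killed n := killedP_cokernel i hF.1 n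

theorem isCoh_coimage_like {S : ShortComplex X.Modules} (hS : S.ShortExact) (h₁ : Coh.IsCoh S.X₁) :
    Coh.IsCoh (kernel S.g) := by
  haveI := hS.mono_f
  exact QCoh.isCoh_of_iso (hS.fIsKernel.conePointUniqueUpToIso (limit.isLimit _)) h₁

theorem clSub_gr_add {S : ShortComplex X.Modules} (hS : S.ShortExact) (h₁ : suppP i S.X₁)
    (h₂ : suppP i S.X₂) (h₃ : suppP i S.X₃) :
    KZero.clSub (killedP i) (kfFilt i _ h₂).gr =
      KZero.clSub (killedP i) (kfFilt i _ h₁).gr + KZero.clSub (killedP i) (kfFilt i _ h₃).gr := by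
  haveI := hS.mono_f
  haveI := hS.epi_g
  haveI hep : ∀ n, Epi (kfMap i n S.g) := epi_kfMap i h₂.1 h₃.1 S.g
  let T : ℕ → ShortComplex X.Modules := fun n =>
    ShortComplex.mk (kernel.ι (kfMap i n S.g)) (kfMap i n S.g) (kernel.condition _)
  have hT : ∀ n, (T n).ShortExact := fun n => shortExact_kernel (kfMap i n S.g)
  let α : ∀ n, kernel (kfMap i (n + 1) S.g) ⟶ kernel (kfMap i n S.g) := fun n =>
    kernel.map _ _ (kfι i n S.X₂) (kfι i n S.X₃) (kfMap_ι i n S.g)
  let φ : ∀ n, T (n + 1) ⟶ T n := fun n =>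
    { τ₁ := α n, τ₂ := kfι i n S.X₂, τ₃ := kfι i n S.X₃
      comm₁₂ := kernel.lift_ι _ _ _
      comm₂₃ := (kfMap_ι i n S.g).symm }
  haveI : ∀ n, Mono (φ n).τ₃ := fun n => inferInstanceAs (Mono (kfι i n S.X₃))
  choose a b w hses using fun n => shortExact_cokernels (φ n) (hT (n + 1)) (hT n)
  haveI hma : ∀ n, Mono (a n) := fun n => (hses n).mono_f
  have hcA : ∀ n, Coh.IsCoh (kernel (kfMap i n S.g)) := fun n =>
    QCoh.isCoh_kernel _ (isCoh_kf i h₂.1 n) (isCoh_kf i h₃.1 n)
  have hmα : ∀ n, Mono (α n) := fun n =>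
    mono_of_mono_fac (kernel.lift_ι _ _ _ : α n ≫ kernel.ι _ = kernel.ι _ ≫ kfι i n S.X₂)
  have hkA : ∀ n, killedP i (cokernel (α n)) := fun n =>
    killedP_of_mono i (a n) (QCoh.isCoh_cokernel _ (hcA _) (hcA _)) ((kfFilt i _ h₂).killed n)
  let A : Filt i S.X₁ :=
    { obj := fun n => kernel (kfMap i n S.g)
      map := α
      mono := hmα
      iso := IsLimit.conePointUniqueUpToIso (kernelIsKernel S.g) hS.fIsKernel
      lf := (kfFilt i _ h₂).lf.of_subset (fun n => hcA _)
        fun n => @QCoh.support_subset_of_mono _ _ _ (kernel.ι (kfMap i n.down S.g)) equalizer.ι_mono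
      killed := hkA }
  rw [clSub_gr_eq i (kfFilt i _ h₁) A h₁.1]
  let a' : ∀ n : ULift.{u} ℕ, cokernel (α n.down) ⟶ cokernel (kfι i n.down S.X₂) := fun n => a n.down
  haveI : ∀ n, Mono (a' n) := fun n => hma n.down
  obtain ⟨w', h⟩ := shortExact_sigma_coker a'
  let e : (∐ fun n : ULift.{u} ℕ => cokernel (a' n)) ≅ (kfFilt i _ h₃).gr :=
    Sigma.mapIso fun n => (cokernelIsCokernel (a' n)).coconePointUniqueUpToIso (hses n.down).gIsCokernel
  have hc : killedP i (∐ fun n : ULift.{u} ℕ => cokernel (a' n)) :=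
    killedP_sigma i ((kfFilt i _ h₂).lf_gr.of_subset
      (fun n => QCoh.isCoh_cokernel _ (hkA _).1 ((kfFilt i _ h₂).killed _).1)
      fun n => @QCoh.support_subset_of_epi _ _ _ (cokernel.π (a' n)) coequalizer.π_epi)
      fun n => killedP_cokernel_of_killed i _ (hkA _).1 ((kfFilt i _ h₂).killed _)
  rw [← clSub_iso' (fun Z hZ => killedP_of_isZero i hZ) e hc (kfFilt i _ h₃).gr_killed]
  exact clSub_add h A.gr_killed (kfFilt i _ h₂).gr_killed hc

/-- The dévissage theorem for coherent modules supported in a closed subscheme. -/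
theorem bijective_mapSub_killed_supp :
    Function.Bijective (SGA6.mapSub (𝟭 X.Modules) (killedP i) (suppP i)
      fun _ h => killedP.supp i h) := by
  classical
  let φ : X.Modules → KZero.K0sub (killedP i) := fun F =>
    if h : suppP i F then KZero.clSub (killedP i) (kfFilt i F h).gr else 0
  have hφ : ∀ F (h : suppP i F), φ F = KZero.clSub (killedP i) (kfFilt i F h).gr :=
    fun F h => dif_pos h
  obtain ⟨ψ, hψ⟩ := exists_lift (P := suppP i) φ fun S hS h₁ h₂ h₃ => by
    rw [hφ _ h₁, hφ _ h₂, hφ _ h₃, clSub_gr_add i hS h₁ h₂ h₃]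
  have hsub : ∀ (F : X.Modules) (h : suppP i F) n,
      CohB1.support (kf i n F) ⊆ Set.range i := fun F h n =>
    (support_kf_subset i n).trans ((suppP_iff i).1 h).2
  have hl : ψ.comp (SGA6.mapSub (𝟭 X.Modules) (killedP i) (suppP i) fun _ h => killedP.supp i h) =
      AddMonoidHom.id _ := hom_ext fun F hF => by
    have hFs := killedP.supp i hF
    have hk : ∀ n, killedP i (kf i n F) := fun n => by
      induction n with
      | zero => exact hF
      | succ n ih => exact killedP_of_mono i (kfι i n F) (isCoh_kf i hF.1 _) ih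
    rw [AddMonoidHom.comp_apply, mapSub_clSub _ _ _ hF]
    change ψ (KZero.clSub (suppP i) F) = _
    rw [hψ _ hFs, hφ _ hFs]
    exact (clSub_eq_gr (P := killedP i) (fun n => kf i n F) (fun n => kfι i n F) hF
      (killedP_sigma i (LF.succ (kfFilt i F hFs).lf) fun n => hk _)
      (killedP_sigma i (kfFilt i F hFs).lf fun n => hk n.down) (kfFilt i F hFs).gr_killed).symm
  have hr : (SGA6.mapSub (𝟭 X.Modules) (killedP i) (suppP i) fun _ h => killedP.supp i h).comp ψ =
      AddMonoidHom.id _ := hom_ext fun F hF => by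
    rw [AddMonoidHom.comp_apply, hψ _ hF, hφ _ hF, mapSub_clSub _ _ _ (kfFilt i F hF).gr_killed]
    refine (clSub_eq_gr (P := suppP i) (fun n => kf i n F) (fun n => kfι i n F) hF
      (suppP_sigma i (LF.succ (kfFilt i F hF).lf) fun n => (suppP_iff i).2
        ⟨isCoh_kf i hF.1 _, hsub F hF _⟩)
      (suppP_sigma i (kfFilt i F hF).lf fun n => (suppP_iff i).2 ⟨isCoh_kf i hF.1 _, hsub F hF _⟩)
      (killedP.supp i (kfFilt i F hF).gr_killed)).symm
  exact ⟨Function.LeftInverse.injective (DFunLike.congr_fun hl),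
    Function.RightInverse.surjective (DFunLike.congr_fun hr)⟩

theorem isCoh_push {N : Z.Modules} (hN : Coh.IsCoh N) : Coh.IsCoh ((Coh.push i).obj N) := by
  haveI := hN.1
  haveI hq : ((Coh.push i).obj N).IsQuasicoherent := QCoh.isQuasicoherent_pushforward i N
  refine ⟨hq, (QCoh.isFiniteType_iff_moduleFinite _).2 fun U hU => ?_⟩
  letI : Algebra Γ(X, U) Γ(Z, i ⁻¹ᵁ U) := (i.app U).hom.toAlgebra
  letI : Module Γ(X, U) Γ(N, i ⁻¹ᵁ U) := Module.compHom _ (algebraMap Γ(X, U) Γ(Z, i ⁻¹ᵁ U))
  haveI : IsScalarTower Γ(X, U) Γ(Z, i ⁻¹ᵁ U) Γ(N, i ⁻¹ᵁ U) :=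
    IsScalarTower.of_algebraMap_smul fun _ _ => rfl
  haveI : Module.Finite Γ(X, U) Γ(Z, i ⁻¹ᵁ U) :=
    Module.Finite.of_surjective (Algebra.linearMap Γ(X, U) Γ(Z, i ⁻¹ᵁ U)) (i.app_surjective U hU)
  haveI := QCoh.moduleFinite_of_isFiniteType N hN.2 (hU.preimage i)
  exact (Module.Finite.trans Γ(Z, i ⁻¹ᵁ U) Γ(N, i ⁻¹ᵁ U) :
    Module.Finite Γ(X, U) Γ(N, i ⁻¹ᵁ U))

end GrothLib.K0Sub
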