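import Groth.Agent.Lib.K0Sub.PushClass

/-!
Classes of direct images of resolved modules.
-/

set_option autoImplicit false
universe v u

open CategoryTheory CategoryTheory.Limits AlgebraicGeometry

namespace GrothLib.K0Sub

theorem clSub_eq_of_iso {C : Type u} [Category.{v} C] [Abelian C] {P : ObjectProperty C} {A B : C} (e : A ≅ B)
    (hA : P A) (hB : P B) (h0 : ∀ Z : C, IsZero Z → P Z) : KZero.clSub P A = KZero.clSub P B := by
  obtain ⟨Z, hZ⟩ := HasZeroObject.zero (C := C)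
  have hS : (ShortComplex.mk (0 : Z ⟶ A) e.hom zero_comp).ShortExact :=
    { exact := (ShortComplex.exact_iff_mono _ rfl).2 (inferInstanceAs (Mono e.hom))
      mono_f := ⟨fun _ _ _ => hZ.eq_of_tgt _ _⟩
      epi_g := inferInstanceAs (Epi e.hom) }
  have h := clSub_add (P := P) hS (h0 Z hZ) hA hB
  rwa [clSub_isZero hZ, zero_add] at h

theorem R.of_iso {C : Type u} [Category.{v} C] [Abelian C] {P₀ P₁ : ObjectProperty C} (h : ResHyp P₀ P₁) :
    ∀ {n : ℕ} {A B : C} {c}, (A ≅ B) → R P₀ P₁ n A c → R P₀ P₁ n B c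
  | 0, A, B, c, e, hR => by
    have hB : P₀ B := h.iso₀.of_iso e hR.1
    exact ⟨hB, hR.2.trans (clSub_eq_of_iso e hR.1 hB fun Z hZ => zero_mem₀ h hR.1 hZ)⟩
  | n + 1, A, B, c, e, hR => by
    obtain ⟨h₁, @⟨K, L, A', i, p, w⟩, c', hS, he, hL, hK, hc⟩ := hR
    dsimp at he
    subst he
    refine ⟨h.iso₁.of_iso e h₁, ShortComplex.mk i (p ≫ e.hom) (by rw [← Category.assoc, w, zero_comp]), c', ?_, rfl, hL, hK, hc⟩
    exact ShortComplex.shortExact_of_iso (ShortComplex.isoMk (S₁ := ShortComplex.mk i p w)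
      (S₂ := ShortComplex.mk i (p ≫ e.hom) (by rw [← Category.assoc, w, zero_comp]))
      (Iso.refl _) (Iso.refl _) e (by simp) (by simp)) hS

variable {X Y Z : Scheme.{u}}

theorem pd_of_R [IsNoetherian Y] : ∀ (n : ℕ) (M : Y.Modules) (c : SGA6.Kvb Y),
    R (KRR.vbP Y) (cohP Y) n M c → ∀ y, HasProjectiveDimensionLT ((OX.stalk y).obj M) (n + 1) := by
  have hproj : ∀ (E : Y.Modules), FlatMod.IsFinLocFree E → ∀ z, Projective ((OX.stalk z).obj E) := fun E hE z => by
    haveI := (Euler.isCoh_of_isFinLocFree hE).1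
    haveI : Module.Free (Y.presheaf.stalk z) (E.presheaf.stalk z) :=
      ((LocFree8.isFinLocFree_iff_fp_free (M := E)).1 hE).2 z
    exact (IsProjective.iff_projective _).1
      (inferInstance : Module.Projective (Y.presheaf.stalk z) (E.presheaf.stalk z))
  intro n
  induction n with
  | zero => exact fun M c hR y => projective_iff_hasProjectiveDimensionLT_one.1 (hproj M hR.1 y)
  | succ n ih =>
    intro M c hR y
    obtain ⟨-, S, c', hS, rfl, hL, hK, -⟩ := hR
    exact (((hS.map_of_exact (OX.stalk y)).hasProjectiveDimensionLT_X₃_iff n (hproj _ hL y))).2 (ih _ _ hK y)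

/-- Direct images along regular closed immersions of modules of bounded projective dimension. -/
theorem exists_pd_push_of_R [IsNoetherian Y] [IsNoetherian Z] {g : Y ⟶ Z} (hg : Mor2.IsRegularClosedImmersion g) :
    ∀ (n : ℕ) (M : Y.Modules) (a : SGA6.Kvb Y), R (KRR.vbP Y) (cohP Y) n M a →
      ∃ k : ℕ, ∀ z, HasProjectiveDimensionLT ((OX.stalk z).obj ((Scheme.Modules.pushforward g).obj M)) (k + 1)
  | 0, M, a, hR => exists_pd_push hg hR.1
  | n + 1, M, a, hR => by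
    haveI := hg.1
    obtain ⟨-, S, c', hS, rfl, hL, hK, -⟩ := hR
    obtain ⟨k₁, h₁⟩ := exists_pd_push_of_R hg n _ _ hK
    obtain ⟨k₂, h₂⟩ := exists_pd_push hg hL
    obtain ⟨-, hlim, hcolim⟩ := pushforward_exact g
    refine ⟨max k₁ k₂ + 1, fun z => ?_⟩
    exact ((hS.map_of_exact (Scheme.Modules.pushforward g)).map_of_exact (OX.stalk z)).hasProjectiveDimensionLT_X₃
      (max k₁ k₂ + 1) (Serre.pdLE_mono (le_max_left _ _) (h₁ z))
      (Serre.pdLE_mono ((le_max_right k₁ k₂).trans (Nat.le_succ _)) (h₂ z))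

/-- The class of the direct image of a resolved module. -/
theorem exists_R_push [IsNoetherian Y] [IsNoetherian Z] (hZ : KRR.HasEnoughLocFree Z) {g : Y ⟶ Z}
    (hg : Mor2.IsRegularClosedImmersion g) {ψ : SGA6.Kvb Y →+ SGA6.Kvb Z}
    (hψ : ∀ F : Y.Modules, FlatMod.IsFinLocFree F →
      ∀ n c, R (KRR.vbP Z) (cohP Z) n ((Scheme.Modules.pushforward g).obj F) c → ψ (KRR.cl Y F) = c) :
    ∀ (n : ℕ) (M : Y.Modules) (a : SGA6.Kvb Y), R (KRR.vbP Y) (cohP Y) n M a →
      ∃ k, R (KRR.vbP Z) (cohP Z) k ((Scheme.Modules.pushforward g).obj M) (ψ a)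
  | 0, M, a, hR => by
    haveI := hg.1
    obtain ⟨k, hk⟩ := exists_pd_push hg hR.1
    obtain ⟨c, hc⟩ := exists_R_of_pd hZ k _ (isCoh_push g (Euler.isCoh_of_isFinLocFree hR.1)) hk
    refine ⟨k, ?_⟩
    rw [hR.2]
    rwa [show ψ (KRR.cl Y M) = c from hψ M hR.1 k c hc]
  | n + 1, M, a, hR => by
    haveI := hg.1
    obtain ⟨k, hk⟩ := exists_pd_push_of_R hg (n + 1) M a hR
    obtain ⟨hM, S, c', hS, rfl, hL, hK, rfl⟩ := hR
    obtain ⟨k₁, h₁⟩ := exists_R_push hZ hg hψ n _ _ hK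
    obtain ⟨b, hb⟩ := exists_R_of_pd hZ k _ (isCoh_push g hM) hk
    obtain ⟨-, hlim, hcolim⟩ := pushforward_exact g
    obtain ⟨m, hm⟩ := R.add (resHyp_vb hZ) (S.map (Scheme.Modules.pushforward g)) (hS.map_of_exact _) h₁ hb
    refine ⟨k, ?_⟩
    rwa [map_sub, show ψ (KRR.cl Y S.X₂) = _ from hψ _ hL m _ hm, add_sub_cancel_left]

end GrothLib.K0Sub
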