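import Groth.Agent.Lib.K0Sub.LocFree
import Groth.Agent.Lib.K0Sub.PushExact
import Groth.Agent.Lib.HomSh.Coherent
import Groth.Agent.Lib.CycBasic.SubLength
import Groth.Agent.Lib.LocFree8.Basic
import Groth.Agent.Lib.Serre.Basic
import Groth.Agent.Lib.RelReg.Stalk
import Groth.Agent.Lib.QCoh.ClosedImmersion
import Mathlib.RingTheory.Regular.Flat
import Groth.Prelude.Def_Mor2

/-!
Direct images of vector bundles along regular closed immersions: projective dimension and classes.
-/

set_option autoImplicit false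
universe v u

open CategoryTheory CategoryTheory.Limits AlgebraicGeometry
open scoped Pointwise
open RingTheory.Sequence HomologicalComplex

namespace GrothLib.K0Sub

section Alg

open Serre

variable {R : Type u} [CommRing R]

theorem pdLE_quotSMulTop {M : Type u} [AddCommGroup M] [Module R M] {x : R} (hx : IsSMulRegular M x) {n : ℕ}
    (h : PdLE R M n) : PdLE R (QuotSMulTop x M) (n + 1) := by
  let S : ShortComplex (ModuleCat.{u} R) :=
    ShortComplex.mk (ModuleCat.ofHom (LinearMap.lsmul R M x)) (ModuleCat.ofHom (x • (⊤ : Submodule R M)).mkQ)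
      (ModuleCat.hom_ext (LinearMap.ext fun m => (Submodule.Quotient.mk_eq_zero _).2
        (Submodule.smul_mem_pointwise_smul m x ⊤ trivial)))
  have hS : S.ShortExact :=
    { exact := (ShortComplex.moduleCat_exact_iff _).2 fun v hv => by
        obtain ⟨w, -, hw⟩ := (Submodule.mem_smul_pointwise_iff_exists _ x ⊤).1 ((Submodule.Quotient.mk_eq_zero _).1 hv)
        exact ⟨w, hw⟩
      mono_f := (ModuleCat.mono_iff_injective _).2 hx
      epi_g := (ModuleCat.epi_iff_surjective _).2 (Submodule.mkQ_surjective _) }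
  exact hS.hasProjectiveDimensionLT_X₃ (n + 1) h (pdLE_mono (Nat.le_succ n) h)

theorem pdLE_quot_seq : ∀ (rs : List R) {M : Type u} [AddCommGroup M] [Module R M] {n : ℕ},
    IsWeaklyRegular M rs → PdLE R M n → PdLE R (M ⧸ Ideal.ofList rs • (⊤ : Submodule R M)) (n + rs.length)
  | [], M, _, _, n, _, h => by
    refine (pdLE_congr ?_ n).1 h
    exact (Submodule.quotEquivOfEqBot _ (by simp)).symm
  | x :: rs, M, _, _, n, hr, h => by
    rw [isWeaklyRegular_cons_iff] at hr
    have := pdLE_quot_seq rs hr.2 (pdLE_quotSMulTop hr.1 h)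
    rw [List.length_cons, show n + (rs.length + 1) = n + 1 + rs.length by omega]
    exact (pdLE_congr (Submodule.quotOfListConsSMulTopEquivQuotSMulTopInner M x rs).symm _).1 this

theorem pdLE_pi {M : Type u} [AddCommGroup M] [Module R M] {n : ℕ} (h : PdLE R M n) :
    ∀ r : ℕ, PdLE R (Fin r → M) n
  | 0 => pdLE_mono (Nat.zero_le n) (pdLE_zero_iff.2 inferInstance)
  | r + 1 => by
    refine (pdLE_congr (Fin.consLinearEquiv R fun _ : Fin (r + 1) => M) n).1 ?_
    let S : ShortComplex (ModuleCat.{u} R) :=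
      ShortComplex.mk (ModuleCat.ofHom (LinearMap.inl R M (Fin r → M))) (ModuleCat.ofHom (LinearMap.snd R M (Fin r → M)))
        (ModuleCat.hom_ext (LinearMap.ext fun m => rfl))
    have hS : S.ShortExact :=
      { exact := (ShortComplex.moduleCat_exact_iff _).2 fun v hv => ⟨v.1, Prod.ext rfl hv.symm⟩
        mono_f := (ModuleCat.mono_iff_injective _).2 LinearMap.inl_injective
        epi_g := (ModuleCat.epi_iff_surjective _).2 LinearMap.snd_surjective }
    exact hS.hasProjectiveDimensionLT_X₂ (n + 1) h (pdLE_pi h r)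

end Alg

variable {X Y : Scheme.{u}}

/-- A coherent module of bounded projective dimension is resolved by vector bundles. -/
theorem exists_R_of_pd [IsNoetherian Y] (hY : KRR.HasEnoughLocFree Y) : ∀ (n : ℕ) (M : Y.Modules), Coh.IsCoh M →
    (∀ y, HasProjectiveDimensionLT ((OX.stalk y).obj M) (n + 1)) → ∃ c, R (KRR.vbP Y) (cohP Y) n M c
  | 0, M, hM, h => by
    haveI := hM.1
    refine ⟨_, ?_, rfl⟩
    refine (Ref1.isFinLocFree_iff_free (HomSh.hasRel_of_isCoh hM)).2 fun y => ?_
    haveI : Module.Finite (Y.presheaf.stalk y) (M.presheaf.stalk y) := GrothLib.QuasiFlat.finite_stalk M hM y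
    haveI : Module.Projective (Y.presheaf.stalk y) (M.presheaf.stalk y) := Serre.pdLE_zero_iff.1 (h y)
    exact Module.free_of_flat_of_isLocalRing
  | n + 1, M, hM, h => by
    obtain ⟨E, p, hE, hp⟩ := hY M hM
    haveI := hp
    have hS := shortExact_kernel p
    obtain ⟨c, hc⟩ := exists_R_of_pd hY n (kernel p) (QCoh.isCoh_kernel p (Euler.isCoh_of_isFinLocFree hE) hM)
      fun y => by
        refine ((hS.map_of_exact (OX.stalk y)).hasProjectiveDimensionLT_X₃_iff n ?_).1 (h y)
        haveI := (Euler.isCoh_of_isFinLocFree hE).1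
        haveI : Module.Free (Y.presheaf.stalk y) (E.presheaf.stalk y) :=
          ((LocFree8.isFinLocFree_iff_fp_free (M := E)).1 hE).2 y
        exact (IsProjective.iff_projective _).1
          (inferInstance : Module.Projective (Y.presheaf.stalk y) (E.presheaf.stalk y))
    exact ⟨_, hM, _, c, hS, rfl, hE, hc, rfl⟩

/-- The stalks of the direct image of a bundle along a regular closed immersion. -/
theorem exists_pd_push {i : X ⟶ Y} (hi : Mor2.IsRegularClosedImmersion i) [IsNoetherian X] {F : X.Modules}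
    (hF : FlatMod.IsFinLocFree F) :
    ∃ n : ℕ, ∀ y, HasProjectiveDimensionLT ((OX.stalk y).obj ((Scheme.Modules.pushforward i).obj F)) (n + 1) := by
  classical
  haveI := hi.1
  haveI := hF
  choose U hU hxU rs hreg hker using hi.2
  obtain ⟨t, ht⟩ := isCompact_univ.elim_finite_subcover (fun z : X => ((i ⁻¹ᵁ U z : X.Opens) : Set X))
    (fun z => (i ⁻¹ᵁ U z).2) fun z _ => Set.mem_iUnion.2 ⟨z, hxU z⟩
  refine ⟨t.sup fun z => (rs z).length, fun y => ?_⟩
  by_cases hy : y ∈ Set.range i
  swap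
  · haveI : Subsingleton (((Scheme.Modules.pushforward i).obj F).presheaf.stalk y) :=
      not_not.1 fun h => hy (QCoh.support_pushforward_subset_range i F h)
    refine Serre.pdLE_mono (Nat.zero_le _) (Serre.pdLE_zero_iff.2 ?_)
    exact @Module.Projective.of_free _ _ _ _ _ (@Module.Free.of_subsingleton _ _ _ _ _ ‹_›)
  obtain ⟨x, rfl⟩ := hy
  obtain ⟨z, hz, hxz⟩ := Set.mem_iUnion₂.1 (ht (Set.mem_univ x))
  refine Serre.pdLE_mono (Finset.le_sup (f := fun z => (rs z).length) hz) ?_
  have hxz' : i x ∈ U z := hxz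
  let R₀ := Y.presheaf.stalk (i x)
  let φ := (i.stalkMap x).hom
  letI : Algebra Γ(Y, U z) R₀ := TopCat.Presheaf.algebra_section_stalk Y.presheaf (⟨i x, hxz'⟩ : U z)
  haveI := (hU z).isLocalization_stalk ⟨i x, hxz'⟩
  have hw : IsWeaklyRegular R₀ ((rs z).map (algebraMap Γ(Y, U z) R₀)) :=
    (hreg z).toIsWeaklyRegular.of_isLocalization R₀ ((hU z).primeIdealOf ⟨i x, hxz'⟩).asIdeal.primeCompl
  have hJ : RingHom.ker φ = Ideal.ofList ((rs z).map (algebraMap Γ(Y, U z) R₀)) := by
    rw [GrothLib.RelReg.ker_stalkMap_eq_map i (hU z) inferInstance x hxz', ← Scheme.Hom.ker_apply i ⟨U z, hU z⟩,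
      hker z, ← Ideal.map_ofList]
    rfl
  have h1 : Serre.PdLE R₀ (R₀ ⧸ RingHom.ker φ) (rs z).length := by
    have h0 := pdLE_quot_seq _ hw (Serre.pdLE_zero_iff.2 (inferInstance : Module.Projective R₀ R₀))
    rw [Nat.zero_add, List.length_map, smul_eq_mul, Ideal.mul_top] at h0
    rwa [hJ]
  haveI := (Euler.isCoh_of_isFinLocFree hF).1
  haveI : Module.Free (X.presheaf.stalk x) (F.presheaf.stalk x) :=
    ((LocFree8.isFinLocFree_iff_fp_free (M := F)).1 hF).2 x
  haveI : Module.Finite (X.presheaf.stalk x) (F.presheaf.stalk x) :=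
    GrothLib.QuasiFlat.finite_stalk F (Euler.isCoh_of_isFinLocFree hF) x
  let b := Module.finBasis (X.presheaf.stalk x) (F.presheaf.stalk x)
  let ψ : (Fin _ → R₀ ⧸ RingHom.ker φ) ≃ₗ[R₀] ((ModuleCat.restrictScalars φ).obj ((OX.stalk x).obj F)) :=
    LinearEquiv.ofBijective
      ({ toFun := fun v => (b.equivFun.symm fun k => RingHom.quotientKerEquivOfSurjective (i.stalkMap_surjective x) (v k) :
          ((ModuleCat.restrictScalars φ).obj ((OX.stalk x).obj F)))
         map_add' := fun v w => (congrArg b.equivFun.symm (funext fun k => map_add _ (v k) (w k))).trans (map_add _ _ _)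
         map_smul' := fun r v => (congrArg b.equivFun.symm (funext fun k =>
            (congrArg _ (Algebra.smul_def r (v k))).trans (map_mul _ _ _))).trans (map_smul b.equivFun.symm (φ r) _) } :
        (Fin _ → R₀ ⧸ RingHom.ker φ) →ₗ[R₀] ((ModuleCat.restrictScalars φ).obj ((OX.stalk x).obj F)))
      (b.equivFun.symm.bijective.comp
        (Equiv.piCongrRight fun _ => (RingHom.quotientKerEquivOfSurjective (i.stalkMap_surjective x)).toEquiv).bijective)
  exact (Serre.pdLE_congr (ψ.trans (LinearEquiv.ofBijective (QCoh.pushStalkHom i x F).hom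
    (QCoh.pushStalkHom_bijective i x F i.isClosedEmbedding.isInducing)).symm) _).1 (pdLE_pi h1 _)

/-- A resolution computes the class. -/
theorem R_of_isLFRes [IsLocallyNoetherian Y] : ∀ (n : ℕ) (F : Y.Modules) (L : ChainComplex Y.Modules ℕ)
    (π : L ⟶ (ChainComplex.single₀ Y.Modules).obj F), Coh.IsCoh F → KRR.IsLFRes F n L π →
    R (KRR.vbP Y) (cohP Y) n F (∑ k ∈ Finset.range (n + 1), (-1 : ℤ) ^ k • KRR.cl Y (L.X k))
  | 0, F, L, π, hF, h => by
    obtain ⟨-, hex, hepi⟩ := (quasiIso_iff_exact L F π).1 h.quasiIso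
    haveI := hepi
    haveI : Mono (π.f 0) := hex.mono_g ((h.isZero 1 Nat.one_pos).eq_of_src _ _)
    have e : IsIso (π.f 0) := isIso_of_mono_of_epi (π.f 0)
    let ε := @asIso _ _ _ _ (π.f 0) e
    refine ⟨DCoh.isFinLocFree_of_iso ε (h.finLocFree 0), ?_⟩
    have hZ : IsZero (kernel (π.f 0)) := isZero_kernel_of_mono _
    have hF0 := DCoh.isFinLocFree_of_iso ε (h.finLocFree 0)
    have hS := shortExact_kernel (π.f 0)
    have h0 := clSub_add (P := KRR.vbP Y) hS (isFinLocFree_ker _ hS (h.finLocFree 0) hF0) (h.finLocFree 0) hF0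
    rw [clSub_isZero hZ, zero_add] at h0
    rw [Finset.sum_range_one, pow_zero, one_zsmul]
    exact h0
  | n + 1, F, L, π, hF, h => by
    obtain ⟨hL, hex, hepi⟩ := (quasiIso_iff_exact L F π).1 h.quasiIso
    haveI := hepi
    have w : L.d 1 0 ≫ π.f 0 = 0 := by rw [← π.comm 1 0]; exact comp_zero
    let L' := ChainComplex.truncate.obj L
    let p : L.X 1 ⟶ kernel (π.f 0) := kernel.lift _ (L.d 1 0) w
    have hp : L'.d 1 0 ≫ p = 0 := by
      refine (cancel_mono (kernel.ι (π.f 0))).1 ((Category.assoc _ _ _).trans ?_)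
      exact ((congrArg (L.d 2 1 ≫ ·) (kernel.lift_ι _ _ _)).trans (L.d_comp_d 2 1 0)).trans zero_comp.symm
    let π' : L' ⟶ (ChainComplex.single₀ Y.Modules).obj (kernel (π.f 0)) :=
      (ChainComplex.toSingle₀Equiv L' _).symm ⟨p, hp⟩
    have hπ' : π'.f 0 = p := ChainComplex.toSingle₀Equiv_symm_apply_f_zero (C := L') p hp
    have hq : KRR.IsLFRes (kernel (π.f 0)) n L' π' := by
      refine ⟨fun i => h.finLocFree _, fun i hi => h.isZero _ (Nat.succ_lt_succ hi),
        (quasiIso_iff_exact _ _ _).2 ⟨fun i => ?_, ?_, ?_⟩⟩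
      · have := hL (i + 1)
        rw [exactAt_iff' _ (i + 1 + 1 + 1) (i + 1 + 1) (i + 1) (by simp) (by simp)] at this
        rw [exactAt_iff' _ (i + 1 + 1) (i + 1) i (by simp) (by simp)]
        exact this
      · simp only [hπ']
        have hsc := hL 0
        rw [exactAt_iff' _ (0 + 1 + 1) (0 + 1) 0 (by simp) (by simp)] at hsc
        let φ : ShortComplex.mk (L'.d 1 0) p hp ⟶ L.sc' 2 1 0 :=
          { τ₁ := 𝟙 _, τ₂ := 𝟙 _, τ₃ := kernel.ι _
            comm₁₂ := (Category.id_comp _).trans (Category.comp_id _).symm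
            comm₂₃ := (Category.id_comp _).trans (kernel.lift_ι _ _ _).symm }
        haveI : Epi φ.τ₁ := inferInstanceAs (Epi (𝟙 _))
        haveI : IsIso φ.τ₂ := inferInstanceAs (IsIso (𝟙 _))
        haveI : Mono φ.τ₃ := inferInstanceAs (Mono (kernel.ι (π.f 0)))
        exact (ShortComplex.exact_iff_of_epi_of_isIso_of_mono φ).2 hsc
      · rw [hπ']
        exact (ShortComplex.exact_iff_epi_kernel_lift _).1 hex
    have hK : Coh.IsCoh (kernel (π.f 0)) :=
      QCoh.isCoh_kernel _ (Euler.isCoh_of_isFinLocFree (h.finLocFree 0)) hF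
    refine ⟨hF, _, _, shortExact_kernel (π.f 0), rfl, h.finLocFree 0, R_of_isLFRes n _ L' π' hK hq, ?_⟩
    have hcongr : ∀ k, KRR.cl Y (L.X (k + 1)) = KRR.cl Y (L'.X k) := fun k => rfl
    rw [Finset.sum_range_succ', pow_zero, one_zsmul, sub_eq_add_neg, add_comm, ← Finset.sum_neg_distrib]
    congr 1
    refine Finset.sum_congr rfl fun k _ => ?_
    rw [hcongr, pow_succ, mul_neg_one, neg_smul]

/-- The class of the direct image of a bundle. -/
theorem exists_pushClass [IsNoetherian Y] [IsNoetherian X] (hY : KRR.HasEnoughLocFree Y) {i : X ⟶ Y}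
    (hi : Mor2.IsRegularClosedImmersion i) :
    ∃ ψ : SGA6.Kvb X →+ SGA6.Kvb Y, ∀ F : X.Modules, FlatMod.IsFinLocFree F →
      ∀ n c, R (KRR.vbP Y) (cohP Y) n ((Scheme.Modules.pushforward i).obj F) c → ψ (KRR.cl X F) = c := by
  classical
  haveI := hi.1
  have hcoh : ∀ F : X.Modules, FlatMod.IsFinLocFree F → Coh.IsCoh ((Scheme.Modules.pushforward i).obj F) :=
    fun F hF => isCoh_push i (Euler.isCoh_of_isFinLocFree hF)
  have hex : ∀ F : X.Modules, FlatMod.IsFinLocFree F →
      ∃ n c, R (KRR.vbP Y) (cohP Y) n ((Scheme.Modules.pushforward i).obj F) c := fun F hF => by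
    obtain ⟨n, hn⟩ := exists_pd_push hi hF
    exact ⟨n, exists_R_of_pd hY n _ (hcoh F hF) hn⟩
  let χ : X.Modules → SGA6.Kvb Y := fun F =>
    if hF : FlatMod.IsFinLocFree F then (hex F hF).choose_spec.choose else 0
  have huniq : ∀ F, FlatMod.IsFinLocFree F → ∀ n c,
      R (KRR.vbP Y) (cohP Y) n ((Scheme.Modules.pushforward i).obj F) c → χ F = c := fun F hF n c hc => by
    simp only [χ, dif_pos hF]
    exact R.unique (resHyp_vb hY) (R.mono (resHyp_vb hY) (le_max_left _ n) (hex F hF).choose_spec.choose_spec)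
      (R.mono (resHyp_vb hY) (le_max_right _ _) hc)
  obtain ⟨-, hlim, hcolim⟩ := pushforward_exact i
  obtain ⟨ψ, hψ⟩ := exists_lift (P := KRR.vbP X) χ fun S hS h₁ h₂ h₃ => by
    obtain ⟨m, a, ha⟩ := hex _ h₁
    obtain ⟨n, b, hb⟩ := hex _ h₃
    obtain ⟨k, hk⟩ := R.add (resHyp_vb hY) (S.map (Scheme.Modules.pushforward i))
      (hS.map_of_exact _) ha hb
    rw [huniq _ h₁ m a ha, huniq _ h₃ n b hb]
    exact huniq _ h₂ k _ hk
  exact ⟨ψ, fun F hF n c hc => (hψ F hF).trans (huniq F hF n c hc)⟩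

/-- A resolved module has a locally free resolution. -/
theorem exists_isLFRes_of_R [IsLocallyNoetherian Y] (hY : KRR.HasEnoughLocFree Y) : ∀ (n : ℕ) (F : Y.Modules)
    (c : SGA6.Kvb Y), R (KRR.vbP Y) (cohP Y) n F c →
    ∃ (L : ChainComplex Y.Modules ℕ) (π : L ⟶ (ChainComplex.single₀ Y.Modules).obj F), KRR.IsLFRes F n L π
  | 0, F, c, hR => by
    refine ⟨(ChainComplex.single₀ Y.Modules).obj F, 𝟙 _, fun i => ?_, fun i hi => ?_, inferInstance⟩
    · cases i with
      | zero => exact DCoh.isFinLocFree_of_iso (singleObjXSelf _ 0 F).symm hR.1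
      | succ i => exact zero_mem₀ (resHyp_vb hY) hR.1 (isZero_single_obj_X _ _ _ _ (by omega))
    · exact isZero_single_obj_X _ _ _ _ (by omega)
  | n + 1, F, c, hR => by
    obtain ⟨-, @⟨K, E, F', ι, p, w⟩, c', hS, e, hE, hK, -⟩ := hR
    dsimp at e hE hK
    subst e
    obtain ⟨L', π', hq⟩ := exists_isLFRes_of_R hY n K c' hK
    obtain ⟨hL', hex', hepi'⟩ := (quasiIso_iff_exact L' K π').1 hq.quasiIso
    haveI := hepi'
    haveI := hS.mono_f
    haveI : Mono ι := hS.mono_f
    let q : L'.X 0 ⟶ K := π'.f 0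
    have hq0 : L'.d 1 0 ≫ q = 0 := by show L'.d 1 0 ≫ π'.f 0 = 0; rw [← π'.comm 1 0]; exact comp_zero
    let f : L'.X 0 ⟶ E := q ≫ ι
    have wf : L'.d 1 0 ≫ f = 0 := by rw [← Category.assoc, hq0, zero_comp]
    let L := ChainComplex.augment L' f wf
    have haug : L.d 1 0 ≫ p = 0 := by
      show f ≫ p = 0
      rw [Category.assoc, w, comp_zero]
    let π : L ⟶ (ChainComplex.single₀ Y.Modules).obj F' := (ChainComplex.toSingle₀Equiv L _).symm ⟨p, haug⟩
    have hπ : π.f 0 = p := ChainComplex.toSingle₀Equiv_symm_apply_f_zero (C := L) p haug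
    refine ⟨L, π, fun i => ?_, fun i hi => ?_, (quasiIso_iff_exact _ _ _).2 ⟨fun i => ?_, ?_, ?_⟩⟩
    · cases i with
      | zero => exact hE
      | succ i => exact hq.finLocFree i
    · cases i with
      | zero => omega
      | succ i => exact hq.isZero i (by omega)
    · rw [exactAt_iff' _ (i + 1 + 1) (i + 1) i (by simp) (by simp)]
      cases i with
      | zero =>
        let φ : ShortComplex.mk (L'.d 1 0) q hq0 ⟶ L.sc' (0 + 1 + 1) (0 + 1) 0 :=
          { τ₁ := 𝟙 _, τ₂ := 𝟙 _, τ₃ := ι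
            comm₁₂ := (Category.id_comp _).trans (Category.comp_id _).symm
            comm₂₃ := Category.id_comp _ }
        haveI : Epi φ.τ₁ := inferInstanceAs (Epi (𝟙 _))
        haveI : IsIso φ.τ₂ := inferInstanceAs (IsIso (𝟙 _))
        haveI : Mono φ.τ₃ := inferInstanceAs (Mono ι)
        exact (ShortComplex.exact_iff_of_epi_of_isIso_of_mono φ).1 hex'
      | succ i =>
        have h := hL' i
        rw [exactAt_iff' _ (i + 1 + 1) (i + 1) i (by simp) (by simp)] at h
        exact h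
    · simp only [hπ]
      let φ : ShortComplex.mk (L.d 1 0) p haug ⟶ ShortComplex.mk ι p w :=
        { τ₁ := q, τ₂ := 𝟙 _, τ₃ := 𝟙 _
          comm₁₂ := (Category.comp_id f).symm
          comm₂₃ := (Category.id_comp _).trans (Category.comp_id _).symm }
      haveI : Epi φ.τ₁ := inferInstanceAs (Epi (π'.f 0))
      haveI : IsIso φ.τ₂ := inferInstanceAs (IsIso (𝟙 _))
      haveI : Mono φ.τ₃ := inferInstanceAs (Mono (𝟙 _))
      exact (ShortComplex.exact_iff_of_epi_of_isIso_of_mono φ).2 hS.exact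
    · rw [hπ]
      exact hS.epi_g

end GrothLib.K0Sub
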