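import Groth.Agent.Lib.K0Sub.PushClass
import Groth.Agent.Lib.Serre.Regular

/-!
Projective dimension of stalks on regular schemes.
-/

set_option autoImplicit false
universe u

open CategoryTheory CategoryTheory.Limits AlgebraicGeometry

namespace GrothLib.K0Sub

variable {Y : Scheme.{u}}

/-- Bounds on the projective dimension of stalks are open. -/
theorem exists_pd_nhd [IsNoetherian Y] (hY : KRR.HasEnoughLocFree Y) : ∀ (d : ℕ) (M : Y.Modules), Coh.IsCoh M →
    ∀ y : Y, HasProjectiveDimensionLT ((OX.stalk y).obj M) (d + 1) →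
      ∃ W : Y.Opens, y ∈ W ∧ ∀ z ∈ W, HasProjectiveDimensionLT ((OX.stalk z).obj M) (d + 1)
  | 0, M, hM, y, h => by
    haveI := hM.1
    haveI : Module.Finite (Y.presheaf.stalk y) (M.presheaf.stalk y) := GrothLib.QuasiFlat.finite_stalk M hM y
    haveI : Module.Projective (Y.presheaf.stalk y) (M.presheaf.stalk y) := Serre.pdLE_zero_iff.1 h
    obtain ⟨U, n, e, hyU, he⟩ := Ref1.exists_frame_of_free (HomSh.hasRel_of_isCoh hM)
      (x := y) Module.free_of_flat_of_isLocalRing
    refine ⟨U, hyU, fun z hz => Serre.pdLE_zero_iff.2 ?_⟩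
    haveI := Module.Free.of_equiv (LinearEquiv.ofBijective _ (Ref1.stalk_of_isFrame he z hz))
    exact (inferInstance : Module.Projective (Y.presheaf.stalk z) (M.presheaf.stalk z))
  | d + 1, M, hM, y, h => by
    obtain ⟨E, p, hE, hp⟩ := hY M hM
    haveI := hp
    have hS := shortExact_kernel p
    have hproj : ∀ z, Projective ((OX.stalk z).obj E) := fun z => by
      haveI := (Euler.isCoh_of_isFinLocFree hE).1
      haveI : Module.Free (Y.presheaf.stalk z) (E.presheaf.stalk z) :=
        ((LocFree8.isFinLocFree_iff_fp_free (M := E)).1 hE).2 z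
      exact (IsProjective.iff_projective _).1
        (inferInstance : Module.Projective (Y.presheaf.stalk z) (E.presheaf.stalk z))
    have hiff := fun z => (hS.map_of_exact (OX.stalk z)).hasProjectiveDimensionLT_X₃_iff d (hproj z)
    obtain ⟨W, hyW, hW⟩ := exists_pd_nhd hY d (kernel p)
      (QCoh.isCoh_kernel p (Euler.isCoh_of_isFinLocFree hE) hM) y ((hiff y).1 h)
    exact ⟨W, hyW, fun z hz => (hiff z).2 (hW z hz)⟩

/-- On a Noetherian regular scheme the projective dimensions of the stalks of a coherent module are bounded. -/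
theorem exists_pd_regular [IsNoetherian Y] (hY : KRR.HasEnoughLocFree Y)
    (hreg : ∀ y : Y, IsRegularLocalRing (Y.presheaf.stalk y)) {M : Y.Modules} (hM : Coh.IsCoh M) :
    ∃ n : ℕ, ∀ y, HasProjectiveDimensionLT ((OX.stalk y).obj M) (n + 1) := by
  classical
  have hd : ∀ y : Y, ∃ d : ℕ, HasProjectiveDimensionLT ((OX.stalk y).obj M) (d + 1) := fun y => by
    haveI := hreg y
    refine ⟨(IsLocalRing.maximalIdeal (Y.presheaf.stalk y)).spanFinrank, ?_⟩
    exact Serre.pdLE_of_isRegularLocalRing (Y.presheaf.stalk y) _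
      (IsRegularLocalRing.spanFinrank_maximalIdeal (R := Y.presheaf.stalk y)).symm ((OX.stalk y).obj M)
  choose d hd using hd
  choose W hyW hW using fun y => exists_pd_nhd hY (d y) M hM y (hd y)
  obtain ⟨t, ht⟩ := isCompact_univ.elim_finite_subcover (fun y : Y => (W y : Set Y))
    (fun y => (W y).2) fun y _ => Set.mem_iUnion.2 ⟨y, hyW y⟩
  refine ⟨t.sup d, fun z => ?_⟩
  obtain ⟨y, hy, hzy⟩ := Set.mem_iUnion₂.1 (ht (Set.mem_univ z))
  exact Serre.pdLE_mono (Finset.le_sup hy) (hW y z hzy)

end GrothLib.K0Sub
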