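import Groth.Agent.Lib.K0Sub.Pullback
import Groth.Agent.Lib.K0Sub.PushComp

/-!
Pull-backs of classes of modules which are locally free near the image.
-/

set_option autoImplicit false
universe u

open CategoryTheory CategoryTheory.Limits AlgebraicGeometry

namespace GrothLib.K0Sub

variable {Y Z U : Scheme.{u}} (j : U ⟶ Y) [IsOpenImmersion j] (h' : Z ⟶ U)

theorem pull_R_eq {ψ : SGA6.Kvb Y →+ SGA6.Kvb Z}
    (hψ : ∀ E : Y.Modules, FlatMod.IsFinLocFree E →
      ψ (KRR.cl Y E) = KRR.cl Z ((Scheme.Modules.pullback (h' ≫ j)).obj E)) :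
    ∀ (n : ℕ) (M : Y.Modules) (c : SGA6.Kvb Y), R (KRR.vbP Y) (cohP Y) n M c →
      FlatMod.IsFinLocFree ((Scheme.Modules.restrictFunctor j).obj M) →
      ψ c = KRR.cl Z ((Scheme.Modules.pullback h').obj ((Scheme.Modules.restrictFunctor j).obj M)) := by
  have hzero : ∀ E : Y.Modules, FlatMod.IsFinLocFree E →
      ψ (KRR.cl Y E) = KRR.cl Z ((Scheme.Modules.pullback h').obj ((Scheme.Modules.restrictFunctor j).obj E)) :=
    fun E hE => by
      refine (hψ E hE).trans (clSub_eq_of_iso (((Scheme.Modules.pullbackComp h' j).app E).symm ≪≫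
        (Scheme.Modules.pullback h').mapIso ((Scheme.Modules.restrictFunctorIsoPullback j).app E).symm)
        (OX.isFinLocFree_pullback _ hE) (OX.isFinLocFree_pullback _ (OX.isFinLocFree_restrict j hE))
        fun W hW => DCoh.isFinLocFree_of_isZero hW)
  intro n
  induction n with
  | zero => exact fun M c hR _ => by rw [hR.2]; exact hzero M hR.1
  | succ n ih =>
    intro M c hR hM
    obtain ⟨-, S, c', hS, rfl, hL, hK, rfl⟩ := hR
    let R' := Scheme.Modules.restrictFunctor j
    have hS' : (S.map R').ShortExact := hS.map_of_exact R'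
    have h₂ : FlatMod.IsFinLocFree (R'.obj S.X₂) := OX.isFinLocFree_restrict j hL
    have h₁ : FlatMod.IsFinLocFree (R'.obj S.X₁) := isFinLocFree_ker _ hS' h₂ hM
    haveI : (Scheme.Modules.pullback h').Additive :=
      (Scheme.Modules.pullbackPushforwardAdjunction h').left_adjoint_additive
    have e := clSub_add (P := KRR.vbP Z) (shortExact_map_pullback h' (S.map R') hS' hM)
      (OX.isFinLocFree_pullback h' h₁) (OX.isFinLocFree_pullback h' h₂) (OX.isFinLocFree_pullback h' hM)
    rw [map_sub, hzero _ hL, ih _ _ hK h₁, sub_eq_iff_eq_add, add_comm]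
    exact e

end GrothLib.K0Sub
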