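import Groth.Agent.Lib.K0Sub.Basic
import Mathlib.CategoryTheory.Abelian.Exact
import Mathlib.CategoryTheory.Limits.Shapes.Pullback.CommSq

/-!
# The resolution theorem for `K₀`

`R` relates an object admitting a finite resolution by `P₀`-objects to its Euler characteristic.
-/

universe v u

open CategoryTheory CategoryTheory.Limits

namespace GrothLib.K0Sub

variable {C : Type u} [Category.{v} C] [Abelian C]

/-- `R P₀ P₁ n A c`: `A` has a resolution of length `n` by `P₀` inside `P₁`, of class `c`. -/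
def R (P₀ P₁ : ObjectProperty C) : ℕ → C → KZero.K0sub P₀ → Prop
  | 0, A, c => P₀ A ∧ c = KZero.clSub P₀ A
  | n + 1, A, c => P₁ A ∧ ∃ (S : ShortComplex C) (c' : KZero.K0sub P₀), S.ShortExact ∧
      S.X₃ = A ∧ P₀ S.X₂ ∧ R P₀ P₁ n S.X₁ c' ∧ c = KZero.clSub P₀ S.X₂ - c'

/-- The hypotheses of the resolution theorem. -/
structure ResHyp (P₀ P₁ : ObjectProperty C) : Prop where
  le : ∀ X, P₀ X → P₁ X
  iso₀ : P₀.IsClosedUnderIsomorphisms
  iso₁ : P₁.IsClosedUnderIsomorphisms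
  ext₀ : ∀ S : ShortComplex C, S.ShortExact → P₀ S.X₁ → P₀ S.X₃ → P₀ S.X₂
  ext₁ : ∀ S : ShortComplex C, S.ShortExact → P₁ S.X₁ → P₁ S.X₃ → P₁ S.X₂
  ker₀ : ∀ S : ShortComplex C, S.ShortExact → P₀ S.X₂ → P₀ S.X₃ → P₀ S.X₁
  ker₁ : ∀ S : ShortComplex C, S.ShortExact → P₁ S.X₂ → P₁ S.X₃ → P₁ S.X₁
  lift : ∀ (A B D : C) (u : A ⟶ B) (v : D ⟶ B), Epi u → P₁ A → P₁ B → P₁ D →
      ∃ (L : C) (u' : L ⟶ D) (v' : L ⟶ A), P₀ L ∧ Epi u' ∧ u' ≫ v = v' ≫ u

variable {P₀ P₁ : ObjectProperty C}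

/-- In a short exact sequence the middle term can be replaced along an epimorphism. -/
theorem shortExact_pullback (S : ShortComplex C) (hS : S.ShortExact) {L : C} (p : L ⟶ S.X₃) :
    ∃ (W : C) (a : S.X₁ ⟶ W) (b : W ⟶ L) (q : W ⟶ S.X₂) (w : a ≫ b = 0),
      (ShortComplex.mk a b w).ShortExact ∧ IsPullback q b S.g p := by
  haveI := hS.mono_f
  haveI := hS.epi_g
  have H : IsPullback (pullback.fst S.g p) (pullback.snd S.g p) S.g p := IsPullback.of_hasPullback _ _
  refine ⟨_, H.lift S.f 0 (by simp), _, _, H.lift_snd _ _ _, ?_, H⟩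
  haveI : Mono (H.lift S.f 0 (by simp)) := by
    have h2 : H.lift S.f 0 (by simp) ≫ pullback.fst S.g p = S.f := H.lift_fst _ _ _
    exact mono_of_mono_fac h2
  refine { exact := ShortComplex.exact_of_f_is_kernel _ (KernelFork.IsLimit.ofι _ _
    (fun {W} k hk => hS.exact.lift (k ≫ pullback.fst S.g p)
      (by rw [Category.assoc, H.w, reassoc_of% hk, zero_comp])) (fun {W} k hk => ?_)
    (fun {W} k hk m hm => ?_)) }
  · apply H.hom_ext
    · rw [Category.assoc, H.lift_fst]; exact hS.exact.lift_f _ _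
    · rw [Category.assoc, H.lift_snd, comp_zero]; exact hk.symm
  · haveI := hS.mono_f
    refine (cancel_mono _).mp (hm.trans ?_)
    apply H.hom_ext
    · rw [Category.assoc, H.lift_fst]; exact (hS.exact.lift_f _ _).symm
    · rw [Category.assoc, H.lift_snd, comp_zero]; exact hk

theorem R.mem₁ (h : ResHyp P₀ P₁) : ∀ {n : ℕ} {A : C} {c}, R P₀ P₁ n A c → P₁ A
  | 0, _, _, hR => h.le _ hR.1
  | _ + 1, _, _, hR => hR.1

theorem zero_mem₀ (h : ResHyp P₀ P₁) {L : C} (hL : P₀ L) {Z : C} (hZ : IsZero Z) : P₀ Z := by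
  have hS : (ShortComplex.mk (0 : Z ⟶ L) (𝟙 L) zero_comp).ShortExact :=
    { exact := by
        rw [ShortComplex.exact_iff_mono _ rfl]
        dsimp
        infer_instance
      mono_f := ⟨fun _ _ _ => hZ.eq_of_tgt _ _⟩ }
  exact h.ker₀ _ hS hL hL

theorem R.succ (h : ResHyp P₀ P₁) : ∀ {n : ℕ} {A : C} {c}, R P₀ P₁ n A c → R P₀ P₁ (n + 1) A c
  | 0, A, c, hR => by
    obtain ⟨Z, hZ⟩ := HasZeroObject.zero (C := C)
    refine ⟨h.le _ hR.1, ShortComplex.mk (0 : Z ⟶ A) (𝟙 A) zero_comp, 0, ?_, rfl, hR.1,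
      ⟨zero_mem₀ h hR.1 hZ, (clSub_isZero hZ).symm⟩, by simpa using hR.2⟩
    exact
      { exact := by
          rw [ShortComplex.exact_iff_mono _ rfl]
          dsimp
          infer_instance
        mono_f := ⟨fun _ _ _ => hZ.eq_of_tgt _ _⟩ }
  | n + 1, A, c, hR => by
    obtain ⟨h₁, S, c', hS, e, hL, hK, hc⟩ := hR
    exact ⟨h₁, S, c', hS, e, hL, R.succ h hK, hc⟩

theorem R.mono (h : ResHyp P₀ P₁) {n m : ℕ} (hnm : n ≤ m) {A : C} {c}
    (hR : R P₀ P₁ n A c) : R P₀ P₁ m A c := by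
  induction hnm with
  | refl => exact hR
  | step _ ih => exact R.succ h ih

/-- An extension of a `P₀`-object by a resolved object is resolved, with the sum of the classes. -/
theorem R.ext_right (h : ResHyp P₀ P₁) : ∀ {n : ℕ} (S : ShortComplex C) {a}, S.ShortExact →
    R P₀ P₁ n S.X₁ a → P₀ S.X₃ → R P₀ P₁ n S.X₂ (a + KZero.clSub P₀ S.X₃)
  | 0, S, a, hS, hR, h₃ =>
    ⟨h.ext₀ S hS hR.1 h₃, by rw [clSub_add hS hR.1 (h.ext₀ S hS hR.1 h₃) h₃, hR.2]⟩
  | n + 1, S, a, hS, hR, h₃ => by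
    obtain ⟨h₁, @⟨K, L, A', i, p, w⟩, c', hK, e, hL, hR', hc⟩ := hR
    dsimp at e hL hR' hc
    subst e
    haveI := hS.mono_f
    haveI := hS.epi_g
    haveI : Epi p := hK.epi_g
    haveI : Mono i := hK.mono_f
    have h₂ : P₁ S.X₂ := h.ext₁ S hS h₁ (h.le _ h₃)
    obtain ⟨L₁, u', v', hL₁, hu', hcomm⟩ :=
      h.lift S.X₂ S.X₃ S.X₃ S.g (𝟙 _) inferInstance h₂ (h.le _ h₃) (h.le _ h₃)
    rw [Category.comp_id] at hcomm
    -- the epimorphism from `L ⊞ L₁`
    let q : L ⊞ L₁ ⟶ S.X₂ := biprod.desc (p ≫ S.f) v'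
    have hq : q ≫ S.g = biprod.snd ≫ u' := by
      ext <;> simp [q, hcomm]
    haveI : Epi q := by
      refine Preadditive.epi_of_cancel_zero _ fun {T} t ht => ?_
      have h1 : S.f ≫ t = 0 := by
        rw [← cancel_epi p, ← Category.assoc, comp_zero]
        simpa [q] using congrArg (biprod.inl ≫ ·) ht
      have h2 : v' ≫ t = 0 := by simpa [q] using congrArg (biprod.inr ≫ ·) ht
      obtain ⟨s, rfl⟩ := CokernelCofork.IsColimit.desc' hS.gIsCokernel t h1
      have : u' ≫ s = 0 := by rw [hcomm, Category.assoc]; exact h2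
      rw [cancel_epi u' |>.mp (this.trans comp_zero.symm), comp_zero]
    -- its kernel
    let j : K ⟶ kernel q := kernel.lift q (i ≫ biprod.inl) (by simp [q, reassoc_of% w])
    let r : kernel q ⟶ kernel u' := kernel.lift u' (kernel.ι q ≫ biprod.snd)
      (by rw [Category.assoc, ← hq, kernel.condition_assoc, zero_comp])
    have hjr : j ≫ r = 0 := by
      rw [← cancel_mono (kernel.ι u')]
      simp [j, r]
    haveI : Mono j := by
      have : j ≫ kernel.ι q = i ≫ biprod.inl := kernel.lift_ι _ _ _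
      exact mono_of_mono_fac this
    have hT : (ShortComplex.mk j r hjr).ShortExact := by
      refine { exact := ?_, epi_g := ?_ }
      · rw [ShortComplex.exact_iff_exact_up_to_refinements]
        intro T x hx
        have h1 : x ≫ kernel.ι q ≫ biprod.snd = 0 := by
          have := congrArg (· ≫ kernel.ι u') hx
          simpa [r] using this
        have h2 : (x ≫ kernel.ι q ≫ biprod.fst) ≫ p = 0 := by
          rw [← cancel_mono S.f, zero_comp]
          have h3 : x ≫ kernel.ι q ≫ q = 0 := by simp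
          have h4 : q = biprod.fst ≫ p ≫ S.f + biprod.snd ≫ v' := by
            simp [q, biprod.desc_eq]
          have h5 := h3.symm.trans (congrArg (fun g => x ≫ kernel.ι q ≫ g) h4)
          simpa [reassoc_of% h1] using h5.symm
        refine ⟨T, 𝟙 T, inferInstance, hK.exact.lift _ h2, ?_⟩
        rw [Category.id_comp, ← cancel_mono (kernel.ι q)]
        apply biprod.hom_ext
        · simp [j]
          simpa using (hK.exact.lift_f _ h2).symm
        · simp [j, h1]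
      · rw [epi_iff_surjective_up_to_refinements]
        intro T y
        have h1 : ((y ≫ kernel.ι u') ≫ v') ≫ S.g = 0 := by
          rw [Category.assoc, ← hcomm, Category.assoc, kernel.condition, comp_zero]
        let m := hS.exact.lift _ h1
        obtain ⟨T', π, hπ, l, hl⟩ := surjective_up_to_refinements_of_epi p m
        refine ⟨T', π, hπ, kernel.lift q (biprod.lift (-l) (π ≫ y ≫ kernel.ι u')) ?_, ?_⟩
        · have h5 : m ≫ S.f = (y ≫ kernel.ι u') ≫ v' := hS.exact.lift_f _ h1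
          simp only [Category.assoc] at h5
          simp [q, ← reassoc_of% hl, h5]
        · rw [← cancel_mono (kernel.ι u')]
          simp [r]
    have hker : P₀ (kernel u') := h.ker₀ _ (shortExact_kernel u') hL₁ h₃
    have hM : P₀ (L ⊞ L₁) := h.ext₀ _ (ShortComplex.Splitting.shortExact
      (ShortComplex.Splitting.ofHasBinaryBiproduct L L₁)) hL hL₁
    refine ⟨h₂, _, _, shortExact_kernel q, rfl, hM, R.ext_right h _ hT hR' hker, ?_⟩
    have e1 := clSub_add (ShortComplex.Splitting.shortExact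
      (ShortComplex.Splitting.ofHasBinaryBiproduct L L₁)) hL hM hL₁
    have e2 := clSub_add (shortExact_kernel u') hker hL₁ h₃
    dsimp at e1 e2 ⊢
    rw [hc, e1, e2]
    abel

theorem R.unique (h : ResHyp P₀ P₁) : ∀ {n : ℕ} {A : C} {c c'},
    R P₀ P₁ n A c → R P₀ P₁ n A c' → c = c'
  | 0, _, _, _, hR, hR' => hR.2.trans hR'.2.symm
  | n + 1, _, c, c', hR, hR' => by
    obtain ⟨-, S, a, hS, rfl, hL, ha, rfl⟩ := hR
    obtain ⟨-, @⟨K', L', A', i', p', w'⟩, a', hS', e, hL', ha', rfl⟩ := hR'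
    dsimp at e hL' ha'
    subst e
    obtain ⟨W, x, y, q, hxy, hW, hP⟩ := shortExact_pullback S hS p'
    haveI := hS.epi_g
    obtain ⟨W', x', y', q', hxy', hW', hP'⟩ :=
      shortExact_pullback (ShortComplex.mk i' p' w') hS' S.g
    let e : W ≅ W' := hP.flip.isoIsPullback _ _ hP'
    have hW'' : (ShortComplex.mk (x' ≫ e.inv) (e.hom ≫ y') (by simp [hxy'])).ShortExact :=
      ShortComplex.shortExact_of_iso (ShortComplex.isoMk (S₁ := ShortComplex.mk x' y' hxy')
        (Iso.refl _) e.symm (Iso.refl _)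
        (by simp) (by simp)) hW'
    have r1 := R.ext_right h _ hW ha hL'
    have r2 := R.ext_right h _ hW'' ha' hL
    have := R.unique h r1 r2
    dsimp at this ⊢
    rw [sub_eq_sub_iff_add_eq_add, add_comm, ← this, add_comm]

theorem R.add (h : ResHyp P₀ P₁) : ∀ {n : ℕ} (S : ShortComplex C) {m : ℕ} {a b}, S.ShortExact →
    R P₀ P₁ m S.X₁ a → R P₀ P₁ n S.X₃ b → ∃ k, R P₀ P₁ k S.X₂ (a + b)
  | 0, S, m, a, b, hS, ha, hb => ⟨m, hb.2 ▸ R.ext_right h S hS ha hb.1⟩
  | n + 1, S, m, a, b, hS, ha, hb => by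
    obtain ⟨h₃, @⟨K, L, A'', i, p, w⟩, b', hK, e, hL, hb', rfl⟩ := hb
    dsimp at e hL hb' ⊢
    subst e
    haveI := hS.epi_g
    obtain ⟨W, x, y, q, hxy, hW, hP⟩ := shortExact_pullback S hS p
    obtain ⟨W', x', y', q', hxy', hW', hP'⟩ := shortExact_pullback (ShortComplex.mk i p w) hK S.g
    let e : W ≅ W' := hP.flip.isoIsPullback _ _ hP'
    have hW'' : (ShortComplex.mk (x' ≫ e.inv) (e.hom ≫ y') (by simp [hxy'])).ShortExact :=
      ShortComplex.shortExact_of_iso (ShortComplex.isoMk (S₁ := ShortComplex.mk x' y' hxy')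
        (Iso.refl _) e.symm (Iso.refl _)
        (by simp) (by simp)) hW'
    -- `W` is resolved
    have rW := R.succ h (R.ext_right h _ hW ha hL)
    obtain ⟨-, @⟨KW, LW, W₀, iW, pW, wW⟩, cW, hSW, eW, hLW, hcW, hval⟩ := rW
    dsimp at eW hLW hcW hval
    subst eW
    haveI : Epi pW := hSW.epi_g
    haveI : Mono iW := hSW.mono_f
    have h₂ : P₁ S.X₂ := h.ext₁ S hS (R.mem₁ h ha) h₃
    -- compose, and compare kernels
    haveI : Epi (e.hom ≫ y') := hW''.epi_g
    haveI : Mono (x' ≫ e.inv) := hW''.mono_f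
    let t : kernel (pW ≫ e.hom ≫ y') ⟶ K :=
      hW''.exact.lift (kernel.ι (pW ≫ e.hom ≫ y') ≫ pW) (by simp)
    have ht : t ≫ x' ≫ e.inv = kernel.ι (pW ≫ e.hom ≫ y') ≫ pW := hW''.exact.lift_f _ _
    let s : KW ⟶ kernel (pW ≫ e.hom ≫ y') := kernel.lift _ iW (by simp [reassoc_of% wW])
    have hst : s ≫ t = 0 := by
      rw [← cancel_mono (x' ≫ e.inv), Category.assoc, ht, ← Category.assoc, kernel.lift_ι,
        wW, zero_comp]
    haveI : Mono s := mono_of_mono_fac (kernel.lift_ι _ _ _ : s ≫ kernel.ι _ = iW)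
    have hN : (ShortComplex.mk s t hst).ShortExact := by
      refine { exact := ?_, epi_g := ?_ }
      · rw [ShortComplex.exact_iff_exact_up_to_refinements]
        intro T z hz
        have h1 : (z ≫ kernel.ι (pW ≫ e.hom ≫ y')) ≫ pW = 0 := by
          rw [Category.assoc, ← ht, reassoc_of% hz, zero_comp]
        refine ⟨T, 𝟙 T, inferInstance, hSW.exact.lift _ h1, ?_⟩
        rw [Category.id_comp, ← cancel_mono (kernel.ι (pW ≫ e.hom ≫ y')), Category.assoc,
          kernel.lift_ι]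
        exact (hSW.exact.lift_f _ h1).symm
      · rw [epi_iff_surjective_up_to_refinements]
        intro T z
        obtain ⟨T', π, hπ, l, hl⟩ := surjective_up_to_refinements_of_epi pW (z ≫ x' ≫ e.inv)
        refine ⟨T', π, hπ, kernel.lift _ l ?_, ?_⟩
        · rw [← reassoc_of% hl]
          simp [hxy']
        · rw [← cancel_mono (x' ≫ e.inv), Category.assoc _ t, ht, kernel.lift_ι_assoc,
            Category.assoc, hl]
    obtain ⟨k, hk⟩ := R.add h _ hN hcW hb'
    refine ⟨k + 1, h₂, _, _, shortExact_kernel (pW ≫ e.hom ≫ y'), rfl, hLW, hk, ?_⟩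
    dsimp
    rw [← add_sub_assoc, hval]
    abel

/-- The resolution theorem. -/
theorem bijective_mapSub (h : ResHyp P₀ P₁)
    (hex : ∀ A, P₁ A → ∃ n c, R P₀ P₁ n A c) :
    Function.Bijective (SGA6.mapSub (𝟭 C) P₀ P₁ h.le) := by
  classical
  let φ : C → KZero.K0sub P₀ := fun A => if hA : P₁ A then (hex A hA).choose_spec.choose else 0
  have hφ : ∀ A, P₁ A → ∃ n, R P₀ P₁ n A (φ A) := fun A hA => by
    simp only [φ, dif_pos hA]
    exact ⟨_, (hex A hA).choose_spec.choose_spec⟩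
  have huniq : ∀ A n c, R P₀ P₁ n A c → φ A = c := fun A n c hc => by
    obtain ⟨m, hm⟩ := hφ A (R.mem₁ h hc)
    exact R.unique h (R.mono h (le_max_left m n) hm) (R.mono h (le_max_right m n) hc)
  obtain ⟨ψ, hψ⟩ := exists_lift (P := P₁) φ fun S hS h₁ h₂ h₃ => by
    obtain ⟨m, hm⟩ := hφ _ h₁
    obtain ⟨n, hn⟩ := hφ _ h₃
    obtain ⟨k, hk⟩ := R.add h S hS hm hn
    exact huniq _ _ _ hk
  have hl : ψ.comp (SGA6.mapSub (𝟭 C) P₀ P₁ h.le) = AddMonoidHom.id _ :=
    hom_ext fun X hX => by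
      rw [AddMonoidHom.comp_apply, mapSub_clSub _ _ _ hX]
      exact (hψ _ (h.le _ hX)).trans (huniq X 0 _ ⟨hX, rfl⟩)
  have hcls : ∀ n A c, R P₀ P₁ n A c →
      SGA6.mapSub (𝟭 C) P₀ P₁ h.le c = KZero.clSub P₁ A := by
    intro n
    induction n with
    | zero =>
      rintro A _ ⟨hA, rfl⟩
      exact mapSub_clSub _ _ _ hA
    | succ n ih =>
      rintro A _ ⟨hA, S, c', hS, rfl, hL, hK, rfl⟩
      rw [map_sub, mapSub_clSub _ _ _ hL, ih _ _ hK]
      refine sub_eq_of_eq_add ?_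
      rw [add_comm]
      exact clSub_add hS (R.mem₁ h hK) (h.le _ hL) hA
  have hr : (SGA6.mapSub (𝟭 C) P₀ P₁ h.le).comp ψ = AddMonoidHom.id _ :=
    hom_ext fun X hX => by
      obtain ⟨n, hn⟩ := hφ X hX
      rw [AddMonoidHom.comp_apply, hψ X hX]
      exact hcls n X _ hn
  exact ⟨Function.LeftInverse.injective (DFunLike.congr_fun hl),
    Function.RightInverse.surjective (DFunLike.congr_fun hr)⟩

end GrothLib.K0Sub

namespace GrothLib.K0Sub

variable {C : Type u} [Category.{v} C] [Abelian C] {P₀ P₁ : ObjectProperty C}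

theorem exact_of_factor {X K Y Z : C} (f : X ⟶ Y) (g : Y ⟶ Z) (w : f ≫ g = 0) (p : X ⟶ K) [Epi p]
    (j : K ⟶ Y) (hf : f = p ≫ j) (hw : j ≫ g = 0) (hk : IsLimit (KernelFork.ofι j hw)) :
    (ShortComplex.mk f g w).Exact := by
  let φ : ShortComplex.mk f g w ⟶ ShortComplex.mk j g hw :=
    { τ₁ := p, τ₂ := 𝟙 _, τ₃ := 𝟙 _ }
  exact (ShortComplex.exact_iff_of_epi_of_isIso_of_mono φ).mpr
    (ShortComplex.exact_of_f_is_kernel _ hk)

/-- If the syzygies of some degree of every resolution are in `P₀`, every object is resolved. -/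
theorem exists_R (h : ResHyp P₀ P₁)
    (h3 : ∀ A : C, P₁ A → ∃ d : ℕ, ∀ L : ChainComplex C ℕ, (∀ i, P₀ (L.X i)) →
      (∀ i, 1 ≤ i → L.ExactAt i) → Nonempty (L.homology 0 ≅ A) → P₀ (L.cycles (d + 1)))
    (A : C) (hA : P₁ A) : ∃ n c, R P₀ P₁ n A c := by
  classical
  have step : ∀ X : Subtype P₁, ∃ (S : ShortComplex C) (_ : S.ShortExact) (_ : S.X₃ = X.1)
      (_ : P₀ S.X₂), P₁ S.X₁ := fun X => by
    obtain ⟨L, u', _, hL, hu', -⟩ :=
      h.lift X.1 X.1 X.1 (𝟙 _) (𝟙 _) inferInstance X.2 X.2 X.2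
    exact ⟨_, shortExact_kernel u', rfl, hL,
      h.ker₁ _ (shortExact_kernel u') (h.le _ hL) X.2⟩
  choose S hS hS₃ hS₂ hS₁ using step
  let K : ℕ → Subtype P₁ := fun i => i.rec ⟨A, hA⟩ fun _ X => ⟨(S X).X₁, hS₁ X⟩
  let ι : ∀ i, (K (i + 1)).1 ⟶ (S (K i)).X₂ := fun i => (S (K i)).f
  let π : ∀ i, (S (K i)).X₂ ⟶ (K i).1 := fun i => (S (K i)).g ≫ eqToHom (hS₃ _)
  have hπ : ∀ i, Epi (π i) := fun i => by
    haveI := (hS (K i)).epi_g
    exact epi_comp _ _
  have hι : ∀ i, Mono (ι i) := fun i => (hS (K i)).mono_f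
  have hιπ : ∀ i, ι i ≫ π i = 0 := fun i => by simp [ι, π]
  let L : ChainComplex C ℕ := ChainComplex.of (fun i => (S (K i)).X₂) (fun i => π (i + 1) ≫ ι i)
    (fun i => (Category.assoc _ _ _).trans ((congrArg (π (i + 1 + 1) ≫ ·)
      ((Category.assoc _ _ _).symm.trans ((congrArg (· ≫ ι i) (hιπ (i + 1))).trans zero_comp))).trans
        comp_zero))
  have hd : ∀ i, L.d (i + 1) i = π (i + 1) ≫ ι i := fun i =>
    ChainComplex.of_d (fun i => (S (K i)).X₂) (fun i => π (i + 1) ≫ ι i) i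
  have hker : ∀ i, IsLimit (KernelFork.ofι (ι i) (hιπ i)) := fun i =>
    IsKernel.ofCompIso _ (π i) (eqToIso (hS₃ (K i))).symm (by simp [π]) (hS (K i)).fIsKernel
  have hR : ∀ i, P₀ (K i).1 → ∀ j, j ≤ i → ∃ n c, R P₀ P₁ n (K j).1 c := by
    intro i hi j hj
    induction hj using Nat.decreasingInduction with
    | self => exact ⟨0, _, hi, rfl⟩
    | of_succ k _ ih =>
      obtain ⟨n, c, hc⟩ := ih
      exact ⟨n + 1, _, (K k).2, _, c, hS (K k), hS₃ _, hS₂ _, hc, rfl⟩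
  obtain ⟨d, hd3⟩ := h3 A hA
  have hcyc : P₀ (L.cycles (d + 1)) := by
    refine hd3 L (fun i => hS₂ _) (fun i hi => ?_) ⟨?_⟩
    · obtain ⟨i, rfl⟩ := Nat.exists_eq_add_of_le' hi
      rw [L.exactAt_iff' (i + 1 + 1) (i + 1) i (by simp) (by simp)]
      haveI := hπ (i + 1 + 1)
      haveI := hι i
      refine exact_of_factor _ _ _ (π (i + 1 + 1)) (ι (i + 1)) (hd _) ?_ ?_
      · rw [hd]
        exact (Category.assoc _ _ _).symm.trans ((congrArg (· ≫ ι i) (hιπ (i + 1))).trans zero_comp)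
      · exact isKernelCompMono (hker (i + 1)) (ι i) (hd i)
    · haveI := hπ 0
      have w : L.d 1 0 ≫ π 0 = 0 := by rw [hd, Category.assoc, hιπ, comp_zero]
      let S₀ : ShortComplex C := ShortComplex.mk (L.d 1 0) (π 0) w
      haveI := hπ 1
      have hex : S₀.Exact := exact_of_factor _ _ _ (π 1) (ι 0) (hd 0) (hιπ 0) (hker 0)
      haveI : Epi S₀.g := hπ 0
      exact L.isoHomologyι₀ ≪≫
        (L.opcyclesIsCokernel 1 0 (by simp)).coconePointUniqueUpToIso hex.gIsCokernel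
  haveI := h.iso₀
  have hK : P₀ (K (d + 2)).1 := by
    haveI := hι d
    have w : L.d (d + 1) d = π (d + 1) ≫ ι d := hd d
    exact P₀.prop_of_iso (IsLimit.conePointUniqueUpToIso (L.cyclesIsKernel (d + 1) d (by simp))
      (isKernelCompMono (hker (d + 1)) (ι d) w)) hcyc
  exact hR (d + 2) hK 0 (Nat.zero_le _)

end GrothLib.K0Sub
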